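import Cfsg.Agent.Lib.GammaRankOne.Main
import Cfsg.Agent.Lib.Involutions.BrauerSuzuki

/-!
# An involution with cyclic fixed points of order four on a Sylow 2-subgroup: the basic facts

`A` has index two in `H`, the involution `t` lies outside `A` and in the Sylow subgroup `P`, and the
fixed points of `t` on `A ∩ P` are the powers of an element `u` of order four.
-/

set_option autoImplicit false
set_option linter.style.haveILetI false

namespace CfsgLib.FourCent

open Subgroup

variable {H : Type*} [Group H]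

/-- An involution of a two-group quotient fixing only the base point: the quotient is trivial. -/
theorem eq_of_fixed [Finite H] {S W : Subgroup H} (hS : IsPGroup 2 S) (hW : W ≤ S)
    (hn : ∀ s ∈ S, ∀ w ∈ W, s * w * s⁻¹ ∈ W) {t : H} (ht : t * t = 1)
    (htS : ∀ s ∈ S, t * s * t ∈ S) (htW : ∀ w ∈ W, t * w * t ∈ W)
    (h : ∀ s ∈ S, s⁻¹ * (t * s * t) ∈ W → s ∈ W) : S = W := by
  classical
  haveI : Fact (Nat.Prime 2) := ⟨Nat.prime_two⟩
  refine le_antisymm ?_ hW
  by_contra hne
  haveI : (W.subgroupOf S).Normal := ⟨fun w hw s => hn s s.2 w hw⟩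
  let φ : S →* S :=
    { toFun := fun s => ⟨t * s * t, htS s s.2⟩
      map_one' := Subtype.ext (by simp [ht])
      map_mul' := fun a b => Subtype.ext (by
        show t * (a * b : H) * t = t * a * t * (t * b * t)
        rw [show t * (a : H) * t * (t * b * t) = t * a * (t * t) * b * t by group, ht]
        group) }
  let ψ := QuotientGroup.map (W.subgroupOf S) (W.subgroupOf S) φ (fun w hw => htW w hw)
  have hinv : Function.Involutive ψ := by
    intro q
    induction q using QuotientGroup.induction_on with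
    | H s =>
      show QuotientGroup.mk (φ (φ s)) = QuotientGroup.mk s
      congr 1
      refine Subtype.ext ?_
      show t * (t * (s : H) * t) * t = s
      rw [show t * (t * (s : H) * t) * t = (t * t) * s * (t * t) by group, ht, one_mul, mul_one]
  let σ : Equiv.Perm (S ⧸ W.subgroupOf S) := hinv.toPerm ψ
  have hσ : σ ^ 2 ^ 1 = 1 := by
    ext q
    rw [pow_one, pow_two, Equiv.Perm.mul_apply]
    exact hinv q
  have hdvd : 2 ∣ Nat.card (S ⧸ W.subgroupOf S) := by
    obtain ⟨k, hk⟩ := (hS.to_quotient (W.subgroupOf S)).exists_card_eq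
    rcases k with _ | k
    · refine absurd ?_ hne
      rw [pow_zero, ← Subgroup.index_eq_card, Subgroup.index_eq_one,
        Subgroup.subgroupOf_eq_top] at hk
      exact hk
    · exact hk ▸ dvd_pow_self 2 (by omega)
  haveI : Fintype (S ⧸ W.subgroupOf S) := Fintype.ofFinite _
  rw [Nat.card_eq_fintype_card] at hdvd
  obtain ⟨b, hb, hb1⟩ := Equiv.Perm.exists_fixed_point_of_prime' hdvd hσ
    (a := 1) (map_one ψ)
  obtain ⟨s, rfl⟩ := QuotientGroup.mk_surjective b
  refine hb1 ((QuotientGroup.eq_one_iff s).2 (h s s.2 ?_))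
  have hb' : (QuotientGroup.mk s : S ⧸ W.subgroupOf S) = QuotientGroup.mk (φ s) := hb.symm
  exact (QuotientGroup.eq.1 hb' : _)

/-- A nontrivial 2-group normalised by an involution contains a nontrivial fixed element. -/
theorem exists_fixed [Finite H] {D : Subgroup H} (hD : IsPGroup 2 D) (hD1 : D ≠ ⊥) {t : H}
    (ht : t * t = 1) (htD : ∀ s ∈ D, t * s * t ∈ D) : ∃ d ∈ D, d ≠ 1 ∧ t * d = d * t := by
  by_contra hno
  push Not at hno
  refine hD1 (eq_of_fixed hD bot_le ?_ ht htD ?_ ?_)
  · rintro s - w hw; rw [mem_bot] at hw ⊢; simp [hw]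
  · intro w hw; rw [mem_bot] at hw ⊢; simp [hw, ht]
  · intro s hs hf
    rw [mem_bot] at hf ⊢
    by_contra hs1
    refine hno s hs hs1 ?_
    have e : t * s * t = s := (inv_mul_eq_one.1 hf).symm
    calc t * s = t * s * (t * t) := by rw [ht, mul_one]
      _ = s * t := by rw [← mul_assoc, e]

/-- The hypotheses. -/
structure Cfg (A : Subgroup H) (P : Sylow 2 H) (t u : H) : Prop where
  normal : A.Normal
  idx : A.index = 2
  tP : t ∈ (P : Subgroup H)
  tA : t ∉ A
  t2 : t * t = 1
  uP : u ∈ (P : Subgroup H)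
  uA : u ∈ A
  u4 : orderOf u = 4
  tu : t * u = u * t
  fix : ∀ s ∈ A, s ∈ (P : Subgroup H) → t * s = s * t → s ∈ zpowers u
  cent : ∀ Q : Subgroup H, Q ≤ A → IsPGroup 2 Q → (∀ q ∈ Q, t * q = q * t) → Nat.card Q ≤ 4
  perf : commutator A = ⊤
  core : ∀ L : Subgroup A, L.Normal → Odd (Nat.card L) → L ≤ center A

namespace Cfg

variable {A : Subgroup H} {P : Sylow 2 H} {t u : H} (C : Cfg A P t u)

/-- Membership in the Sylow subgroup of `A`. -/
abbrev Mem (A : Subgroup H) (P : Sylow 2 H) (s : H) : Prop := s ∈ A ⊓ (P : Subgroup H)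

include C

theorem t_inv : t⁻¹ = t := inv_eq_of_mul_eq_one_right C.t2

theorem t_ne_one : t ≠ 1 := fun e => C.tA (e ▸ one_mem A)

theorem conj_t (x : H) : t * x * t = t * x * t⁻¹ := by rw [C.t_inv]

theorem tconj_mul (x y : H) : t * (x * y) * t = t * x * t * (t * y * t) := by
  rw [show t * x * t * (t * y * t) = t * x * (t * t) * y * t by group, C.t2]; group

theorem tconj_tconj (x : H) : t * (t * x * t) * t = x := by
  rw [show t * (t * x * t) * t = (t * t) * x * (t * t) by group, C.t2, one_mul, mul_one]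

theorem tconj_eq_of_commute {x : H} (h : t * x = x * t) : t * x * t = x := by
  rw [h, mul_assoc, C.t2, mul_one]

theorem commute_of_tconj_eq {x : H} (h : t * x * t = x) : t * x = x * t :=
  calc t * x = t * x * (t * t) := by rw [C.t2, mul_one]
    _ = x * t := by rw [← mul_assoc, h]

theorem mem_or (p : H) : p ∈ A ∨ p * t ∈ A := by
  rw [Subgroup.mul_mem_iff_of_index_two C.idx]
  by_cases h : p ∈ A
  · exact Or.inl h
  · exact Or.inr ⟨fun h' => absurd h' h, fun h' => absurd h' C.tA⟩

theorem conj_mem {s p : H} (hs : Mem A P s) (hp : p ∈ (P : Subgroup H)) : Mem A P (p * s * p⁻¹) :=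
  ⟨C.normal.conj_mem s hs.1 p, (P : Subgroup H).mul_mem ((P : Subgroup H).mul_mem hp hs.2) ((P : Subgroup H).inv_mem hp)⟩

theorem tS {s : H} (hs : Mem A P s) : Mem A P (t * s * t) := by
  rw [C.conj_t]; exact C.conj_mem hs C.tP

theorem uS : Mem A P u := ⟨C.uA, C.uP⟩

theorem zS : Mem A P (u * u) := mul_mem C.uS C.uS

theorem u_pow_four : u ^ 4 = 1 := C.u4 ▸ pow_orderOf_eq_one u

theorem z_sq : u * u * (u * u) = 1 := by
  rw [← C.u_pow_four, show (4 : ℕ) = 2 + 2 from rfl, pow_add, pow_two]

theorem z_inv : (u * u)⁻¹ = u * u := inv_eq_of_mul_eq_one_right C.z_sq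

theorem z_ne_one : u * u ≠ 1 := fun e => by
  have := orderOf_dvd_of_pow_eq_one (show u ^ 2 = 1 by rw [pow_two, e])
  rw [C.u4] at this
  norm_num at this

theorem u_cases {s : H} (hs : s ∈ zpowers u) : s = 1 ∨ s = u ∨ s = u * u ∨ s = u * u * u := by
  classical
  obtain ⟨i, rfl⟩ := hs
  show u ^ i = 1 ∨ u ^ i = u ∨ u ^ i = u * u ∨ u ^ i = u * u * u
  rw [← zpow_mod_orderOf u i, C.u4]
  have h1 := Int.emod_nonneg i (show (4 : ℤ) ≠ 0 by norm_num)
  have h2 := Int.emod_lt_of_pos i (show (0 : ℤ) < 4 by norm_num)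
  have h3 : i % ((4 : ℕ) : ℤ) = i % 4 := by norm_num
  rw [h3]
  obtain h | h | h | h : i % 4 = 0 ∨ i % 4 = 1 ∨ i % 4 = 2 ∨ i % 4 = 3 := by omega
  all_goals rw [h]
  · exact Or.inl (zpow_zero u)
  · exact Or.inr (Or.inl (zpow_one u))
  · exact Or.inr (Or.inr (Or.inl (zpow_two u)))
  · refine Or.inr (Or.inr (Or.inr ?_))
    rw [show (3 : ℤ) = 2 + 1 from rfl, zpow_add, zpow_two, zpow_one]

/-- The only involution of `S` fixed by `t`. -/
theorem fix_involution {s : H} (hs : Mem A P s) (h2 : s * s = 1) (ht : t * s = s * t) :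
    s = 1 ∨ s = u * u := by
  rcases C.u_cases (C.fix s hs.1 hs.2 ht) with e | e | e | e
  · exact Or.inl e
  · exact absurd (e ▸ h2) C.z_ne_one
  · exact Or.inr e
  · refine absurd ?_ C.z_ne_one
    calc u * u = u * u * (u * u * (u * u)) := by rw [C.z_sq, mul_one]
      _ = s * s := by rw [e]; group
      _ = 1 := h2

theorem t_z : t * (u * u) = u * u * t := by
  rw [← mul_assoc, C.tu, mul_assoc, C.tu, mul_assoc]

omit C in
theorem isPGroup_inf : IsPGroup 2 (A ⊓ (P : Subgroup H) : Subgroup H) := P.2.to_le inf_le_right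

theorem z_comm [Finite H] {p : H} (hp : p ∈ (P : Subgroup H)) : p * (u * u) = u * u * p := by
  haveI : Fact (Nat.Prime 2) := ⟨Nat.prime_two⟩
  have key : ∀ s, Mem A P s → s * (u * u) = u * u * s := by
    let D : Subgroup H := A ⊓ (P : Subgroup H) ⊓ centralizer ((A ⊓ (P : Subgroup H) : Subgroup H) : Set H)
    have hDS : D ≤ A ⊓ (P : Subgroup H) := inf_le_left
    have hD1 : D ≠ ⊥ := by
      haveI : Nontrivial (A ⊓ (P : Subgroup H) : Subgroup H) :=
        ⟨⟨⟨u * u, C.zS⟩, 1, fun e => C.z_ne_one (congrArg Subtype.val e)⟩⟩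
      haveI := (isPGroup_inf (A := A) (P := P)).center_nontrivial
      obtain ⟨⟨c, hc⟩, hc'⟩ := exists_ne (1 : center (A ⊓ (P : Subgroup H) : Subgroup H))
      have hc1 : c ≠ 1 := fun e => hc' (Subtype.ext e)
      intro hbot
      refine hc1 (Subtype.ext ?_)
      rw [OneMemClass.coe_one, ← mem_bot, ← hbot]
      refine ⟨c.2, mem_centralizer_iff.2 fun s hs => ?_⟩
      exact congrArg Subtype.val (mem_center_iff.1 hc ⟨s, hs⟩)
    have htD : ∀ d ∈ D, t * d * t ∈ D := by
      intro d hd
      refine ⟨C.tS (hDS hd), mem_centralizer_iff.2 fun s hs => ?_⟩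
      have := mem_centralizer_iff.1 hd.2 _ (C.tS hs)
      calc s * (t * d * t) = t * (t * s * t) * t * (t * d * t) := by rw [C.tconj_tconj]
        _ = t * ((t * s * t) * d) * t := (C.tconj_mul _ _).symm
        _ = t * (d * (t * s * t)) * t := by rw [this]
        _ = _ := by rw [C.tconj_mul, C.tconj_tconj]
    obtain ⟨d, hd, hd1, hdt⟩ := exists_fixed ((isPGroup_inf (A := A) (P := P)).to_le hDS) hD1 C.t2 htD
    have hz : u * u ∈ D := by
      rcases C.u_cases (C.fix d hd.1.1 hd.1.2 hdt) with e | e | e | e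
      · exact absurd e hd1
      · exact mul_mem (e ▸ hd) (e ▸ hd)
      · exact e ▸ hd
      · have h := mul_mem hd hd
        have e2 : d * d = u * u := by
          calc d * d = u * u * (u * u * (u * u)) := by rw [e]; group
            _ = u * u := by rw [C.z_sq, mul_one]
        rwa [e2] at h
    exact fun s hs => mem_centralizer_iff.1 hz.2 s hs
  rcases C.mem_or p with h | h
  · exact key p ⟨h, hp⟩
  · have h1 := key (p * t) ⟨h, mul_mem hp C.tP⟩
    calc p * (u * u) = p * t * (t * (u * u)) := by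
          rw [show p * t * (t * (u * u)) = p * (t * t) * (u * u) by group, C.t2, mul_one]
      _ = p * t * (u * u) * t := by rw [C.t_z]; group
      _ = u * u * (p * t) * t := by rw [h1]
      _ = u * u * p * (t * t) := by group
      _ = u * u * p := by rw [C.t2, mul_one]

theorem no_index_two : ∀ N : Subgroup A, N.Normal → N.index ≠ 2 := by
  intro N hN hi
  haveI := hN
  haveI : Fact (Nat.Prime 2) := ⟨Nat.prime_two⟩
  have hc : IsCyclic (A ⧸ N) := isCyclic_of_prime_card (p := 2) hi
  have hle : commutator A ≤ N :=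
    Subgroup.Normal.quotient_commutative_iff_commutator_le.1 hc.isMulCommutative
  rw [C.perf, top_le_iff] at hle
  rw [hle, Subgroup.index_top] at hi
  omega

end Cfg

end CfsgLib.FourCent
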