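import Cfsg.Agent.Lib.FourCent.Basic
import Cfsg.Agent.Lib.PCore.Basic

/-!
# Fusion tools: an extremal conjugation, transfer, isolated involutions
-/

set_option autoImplicit false
set_option linter.style.haveILetI false

namespace CfsgLib.FourCent

open Subgroup

/-- In a perfect group an element central modulo the centre is central. -/
theorem central_of_mod_center {G : Type*} [Group G] (hperf : commutator G = ⊤) {x : G}
    (hc : ∀ g : G, g * x * g⁻¹ * x⁻¹ ∈ center G) : x ∈ center G := by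
  have hmul : ∀ a b : G, a * b * x * (a * b)⁻¹ * x⁻¹ =
      a * x * a⁻¹ * x⁻¹ * (b * x * b⁻¹ * x⁻¹) := by
    intro a b
    have h1 := mem_center_iff.1 (hc b) a
    have h2 := mem_center_iff.1 (hc b) (a * x * a⁻¹ * x⁻¹)
    rw [h2]
    have e1 : a * b * x * (a * b)⁻¹ * x⁻¹ = a * (b * x * b⁻¹ * x⁻¹) * (x * a⁻¹ * x⁻¹) := by group
    have e2 : b * x * b⁻¹ * x⁻¹ * (a * x * a⁻¹ * x⁻¹) =
        b * x * b⁻¹ * x⁻¹ * a * (x * a⁻¹ * x⁻¹) := by group
    rw [e1, h1, e2]
  let f : G →* center G := MonoidHom.mk' (fun g => ⟨g * x * g⁻¹ * x⁻¹, hc g⟩)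
    (fun a b => Subtype.ext (hmul a b))
  rw [mem_center_iff]
  intro g
  have hg : f g = 1 := by
    have : commutator G ≤ f.ker := by
      rw [commutator_def, Subgroup.commutator_le]
      intro a _ b _
      have hab : f a * f b = f b * f a :=
        Subtype.ext ((mem_center_iff.1 (f b).2 (f a : G)))
      rw [MonoidHom.mem_ker, map_commutatorElement, commutatorElement_def, hab,
        mul_inv_cancel_right, mul_inv_cancel]
    rw [hperf] at this
    exact MonoidHom.mem_ker.1 (this (mem_top g))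
  have e : g * x * g⁻¹ * x⁻¹ = 1 := congrArg Subtype.val hg
  rw [mul_inv_eq_one, mul_inv_eq_iff_eq_mul] at e
  exact e

/-- In a perfect group with central core an involution alone in its class in a Sylow 2-subgroup is
central. -/
theorem central_of_isolated {G : Type*} [Group G] [Finite G] (hperf : commutator G = ⊤)
    (hcore : Cfsg.pPrimeCore 2 G ≤ center G) (S : Sylow 2 G) {x : G} (hx : orderOf x = 2)
    (hiso : ∀ g : G, g * x * g⁻¹ ∈ (S : Subgroup G) → g * x * g⁻¹ = x) : x ∈ center G := by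
  have hZ := CfsgLib.Involutions.zstar G x (CfsgLib.Involutions.isIsolated_of_sylow S hx hiso)
  have hc : ∀ g : G, g * x * g⁻¹ * x⁻¹ ∈ center G := fun g => hcore (hZ g)
  exact central_of_mod_center hperf hc

variable {H : Type*} [Group H] [Finite H] {A : Subgroup H} {P : Sylow 2 H} {t u : H}

namespace Cfg

variable (C : Cfg A P t u)
include C

/-- An involution with an element of order four squaring to `z` in its centralizer is not conjugate
to `z`, as `z` is the only involution which is a square in `P`. -/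
theorem extremal (hsq : ∀ p ∈ (P : Subgroup H), p * p * (p * p) = 1 → p * p = 1 ∨ p * p = u * u)
    {x q : H} (hxz : x ≠ u * u) (hqx : q * x = x * q)
    (hqq : q * q = u * u) {g : H} (hg : g * x * g⁻¹ = u * u) : False := by
  haveI : Fact (Nat.Prime 2) := ⟨Nat.prime_two⟩
  set z := u * u with hz
  have hPC : (P : Subgroup H) ≤ centralizer ({z} : Set H) := fun p hp =>
    mem_centralizer_singleton_iff.2 (C.z_comm hp)
  have hq' : g * q * g⁻¹ ∈ centralizer ({z} : Set H) := by
    refine mem_centralizer_singleton_iff.2 ?_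
    rw [← hg, show g * q * g⁻¹ * (g * x * g⁻¹) = g * (q * x) * g⁻¹ by group, hqx]
    group
  let P' : Sylow 2 (centralizer ({z} : Set H)) := P.subtype hPC
  let Q : Subgroup (centralizer ({z} : Set H)) := zpowers ⟨g * q * g⁻¹, hq'⟩
  have hq4 : q ^ 4 = 1 := by
    rw [show (4 : ℕ) = 2 + 2 from rfl, pow_add, pow_two, hqq, C.z_sq]
  have hQ : IsPGroup 2 Q := by
    have h4 : orderOf (⟨g * q * g⁻¹, hq'⟩ : centralizer ({z} : Set H)) ∣ 2 ^ 2 := by
      refine orderOf_dvd_of_pow_eq_one (Subtype.ext ?_)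
      rw [SubgroupClass.coe_pow, conj_pow, show (2 : ℕ) ^ 2 = 4 from rfl, hq4]
      simp
    obtain ⟨i, -, hi⟩ := (Nat.dvd_prime_pow Nat.prime_two).1 h4
    exact IsPGroup.of_card (n := i) (by rw [Nat.card_zpowers, hi])
  obtain ⟨c, hc⟩ := CfsgLib.Involutions.exists_conj_le_sylow hQ P'
  have hp : (c : H) * (g * q * g⁻¹) * (c : H)⁻¹ ∈ (P : Subgroup H) := hc _ (mem_zpowers _)
  set g' := (c : H) * g with hg'
  have e : (c : H) * (g * q * g⁻¹) * (c : H)⁻¹ = g' * q * g'⁻¹ := by rw [hg']; group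
  rw [e] at hp
  have hcz : (c : H) * z * (c : H)⁻¹ = z := by
    rw [mem_centralizer_singleton_iff.1 c.2, mul_inv_cancel_right]
  have hgx : g' * x * g'⁻¹ = z := by
    rw [hg', show (c : H) * g * x * ((c : H) * g)⁻¹ = (c : H) * (g * x * g⁻¹) * (c : H)⁻¹ by group,
      hg, hcz]
  have e2 : g' * q * g'⁻¹ * (g' * q * g'⁻¹) = g' * z * g'⁻¹ := by rw [← hqq]; group
  rcases hsq _ hp (by
    rw [e2, show g' * z * g'⁻¹ * (g' * z * g'⁻¹) = g' * (z * z) * g'⁻¹ from by group, hz, C.z_sq]
    group) with h | h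
  · rw [e2, conj_eq_one_iff] at h
    exact C.z_ne_one h
  · rw [e2] at h
    exact hxz (mul_left_cancel (mul_right_cancel (hgx.trans h.symm)))

/-- Thompson transfer inside `A`. -/
theorem transfer_into (M : Subgroup H) {y : H} (hy : Mem A P y) (hyM : y ∉ M)
    (hcov : ∀ s, Mem A P s → s ∈ M ∨ s * y ∈ M) {x : H} (hx : Mem A P x)
    (hx2 : x * x = 1) : ∃ a ∈ A, a * x * a⁻¹ ∈ M ∧ Mem A P (a * x * a⁻¹) := by
  haveI := C.normal
  let T : Sylow 2 A := CfsgLib.GammaRankOne.sylowIn A P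
  let Q : Subgroup A := M.subgroupOf A
  have hQi : Q.relIndex (T : Subgroup A) = 2 := by
    refine Subgroup.index_eq_two_iff.2 ⟨⟨⟨y, hy.1⟩, hy.2⟩, fun b => ?_⟩
    rcases hcov ((b : A) : H) ⟨(b : A).2, b.2⟩ with h | h
    · refine Or.inr ⟨h, fun h' => hyM ?_⟩
      exact (Subgroup.mul_mem_cancel_left _ h).1 h'
    · refine Or.inl ⟨h, fun h' => hyM ?_⟩
      have hb : ((b : A) : H) ∈ M := h'
      exact (Subgroup.mul_mem_cancel_left _ hb).1 h
  by_contra hno
  push Not at hno
  obtain ⟨N, hN, hNi, -⟩ := CfsgLib.Transfer.thompson_transfer T Q hQi ⟨x, hx.1⟩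
    (Subtype.ext (by simpa [pow_two] using hx2))
    (fun g hgT hgQ => hno g g.2 hgQ ⟨C.normal.conj_mem x hx.1 g, hgT⟩)
  exact C.no_index_two N hN hNi

omit [Finite H] in
theorem core_le : Cfsg.pPrimeCore 2 A ≤ center A := by
  haveI : Fact (Nat.Prime 2) := ⟨Nat.prime_two⟩
  refine sSup_le fun L hL => C.core L hL.1 ?_
  exact (Nat.coprime_two_right.1 hL.2)

/-- An involution alone in its class in `A ∩ P` is central in `A`. -/
theorem isolated_central {x : H} (hx : Mem A P x) (hx2 : x * x = 1) (hx1 : x ≠ 1)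
    (hiso : ∀ a ∈ A, a * x * a⁻¹ ∈ (P : Subgroup H) → a * x * a⁻¹ = x) :
    ∀ a ∈ A, a * x = x * a := by
  haveI := C.normal
  have h := central_of_isolated (G := A) C.perf C.core_le (CfsgLib.GammaRankOne.sylowIn A P)
    (x := ⟨x, hx.1⟩) (CfsgLib.Involutions.orderOf_eq_two_iff_mul.2 ⟨fun e => hx1 (congrArg Subtype.val e),
      Subtype.ext hx2⟩)
    (fun g hg => Subtype.ext (hiso g g.2 hg))
  exact fun a ha => congrArg Subtype.val (mem_center_iff.1 h ⟨a, ha⟩)

end Cfg

end CfsgLib.FourCent
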