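import Cfsg.Agent.Lib.FourCent.Inner

/-!
# `A ∩ P` has a cyclic subgroup of index two: no such configuration without a normal four-group
-/

set_option autoImplicit false
set_option linter.style.haveILetI false

namespace CfsgLib.FourCent

open Subgroup

universe v

/-- In a perfect group an element of order dividing four is conjugate into a subgroup of index two of
a Sylow 2-subgroup containing its involutions. -/
theorem exists_conj_mem_of_index_two {K : Type v} [Group K] [Finite K] (hperf : commutator K = ⊤)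
    (T : Sylow 2 K) (Q : Subgroup (T : Subgroup K)) (hQ : Q.index = 2) {u : K}
    (hu : u ∈ (T : Subgroup K)) (hu4 : u ^ 4 = 1)
    (hall : ∀ q : (T : Subgroup K), q * q = 1 → q ∈ Q) :
    ∃ a : K, ∃ h : a⁻¹ * u * a ∈ (T : Subgroup K), (⟨_, h⟩ : (T : Subgroup K)) ∈ Q := by
  classical
  haveI : Fact (Nat.Prime 2) := ⟨Nat.prime_two⟩
  haveI : Q.Normal := Subgroup.normal_of_index_eq_two hQ
  by_contra hno
  push Not at hno
  have huQ : (⟨u, hu⟩ : (T : Subgroup K)) ∉ Q := by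
    have h := hno 1 (by simpa using hu)
    simpa using h
  have hc : IsCyclic ((T : Subgroup K) ⧸ Q) := isCyclic_of_prime_card (p := 2) hQ
  letI : CommGroup ((T : Subgroup K) ⧸ Q) :=
    { (inferInstance : Group ((T : Subgroup K) ⧸ Q)) with
      mul_comm := fun a b => hc.isMulCommutative.is_comm.comm a b }
  let φ : (T : Subgroup K) →* (T : Subgroup K) ⧸ Q := QuotientGroup.mk' Q
  have h2 : ∀ q : (T : Subgroup K) ⧸ Q, q * q = 1 := by
    intro q
    induction q using QuotientGroup.induction_on with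
    | H s => exact (QuotientGroup.eq_one_iff (s * s)).2 (Subgroup.mul_self_mem_of_index_two hQ s)
  have hne : ∀ q r : (T : Subgroup K), q ∉ Q → r ∉ Q → φ q = φ r := by
    intro q r hq hr
    refine QuotientGroup.eq.2 ?_
    rw [Subgroup.mul_mem_iff_of_index_two hQ, inv_mem_iff]
    exact ⟨fun h => absurd h hq, fun h => absurd h hr⟩
  have h := CfsgLib.TwoGroups.transfer_eq_pow_of_controlled φ u hu (fun k a hk => by
    obtain ⟨r, hr | hr⟩ := Nat.even_or_odd' k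
    · have hq : (⟨a⁻¹ * u ^ k * a, hk⟩ : (T : Subgroup K)) ∈ Q := by
        refine hall _ (Subtype.ext ?_)
        show a⁻¹ * u ^ k * a * (a⁻¹ * u ^ k * a) = 1
        rw [show a⁻¹ * u ^ k * a * (a⁻¹ * u ^ k * a) = a⁻¹ * (u ^ k * u ^ k) * a by group, ← pow_add, hr,
          show 2 * r + 2 * r = 4 * r by ring, pow_mul, hu4, one_pow, mul_one, inv_mul_cancel]
      rw [show φ ⟨a⁻¹ * u ^ k * a, hk⟩ = 1 from (QuotientGroup.eq_one_iff _).2 hq, hr, pow_mul, pow_two,
        h2, one_pow]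
    · have hk' : u ^ k = u ∨ u ^ k = u⁻¹ := by
        rw [pow_eq_pow_mod k hu4]
        rcases (show k % 4 = 1 ∨ k % 4 = 3 by omega) with e | e <;> rw [e]
        · exact Or.inl (pow_one u)
        · refine Or.inr (eq_inv_of_mul_eq_one_left ?_)
          rw [← pow_succ]; exact hu4
      have hq : (⟨a⁻¹ * u ^ k * a, hk⟩ : (T : Subgroup K)) ∉ Q := by
        rcases hk' with e | e
        · intro h
          refine hno a (e ▸ hk) ?_
          simpa [e] using h
        · intro h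
          have hinv : (a⁻¹ * u ^ k * a)⁻¹ = a⁻¹ * u * a := by rw [e]; group
          have hm : a⁻¹ * u * a ∈ (T : Subgroup K) := hinv ▸ inv_mem hk
          refine hno a hm ?_
          have e2 : (⟨a⁻¹ * u * a, hm⟩ : (T : Subgroup K)) = (⟨a⁻¹ * u ^ k * a, hk⟩)⁻¹ :=
            Subtype.ext hinv.symm
          rw [e2]; exact inv_mem h
      rw [hne _ _ hq huQ, hr, pow_succ, pow_mul, pow_two, h2, one_pow, one_mul])
  have h1 : MonoidHom.transfer φ u = 1 := by
    have : commutator K ≤ (MonoidHom.transfer φ).ker := Abelianization.commutator_subset_ker _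
    rw [hperf] at this
    exact MonoidHom.mem_ker.1 (this (mem_top u))
  obtain ⟨r, hr⟩ : Odd (T : Subgroup K).index :=
    Nat.odd_iff.2 (Nat.two_dvd_ne_zero.1 T.not_dvd_index)
  rw [h1, hr, pow_succ, pow_mul, pow_two, h2, one_pow, one_mul] at h
  exact huQ ((QuotientGroup.eq_one_iff _).1 h.symm)

variable {H : Type v} [Group H] [Finite H] {A : Subgroup H} {P : Sylow 2 H} {t u : H}

/-- `A ∩ P` is `⟨m⟩` extended by the involution `y`. -/
structure Cyc (A : Subgroup H) (P : Sylow 2 H) (m y : H) (k : ℕ) (c : ℤ) : Prop where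
  mM : Cfg.Mem A P m
  yM : Cfg.Mem A P y
  ord : orderOf m = 2 ^ (k + 2)
  ynot : y ∉ zpowers m
  ysq : y * y = 1
  conj : y * m * y⁻¹ = m ^ c
  cc : c = -1 ∨ (1 ≤ k ∧ c = -1 + 2 ^ (k + 1))
  gen : ∀ s, Cfg.Mem A P s → ∃ i : ℤ, s = m ^ i ∨ s = y * m ^ i
  norm : ∀ p ∈ (P : Subgroup H), p * m * p⁻¹ ∈ zpowers m

namespace Cfg

variable (C : Cfg A P t u) {m y : H} {k : ℕ} {c : ℤ} (D : Cyc A P m y k c)
include C D

omit [Finite H] C in
theorem zpm {i j : ℤ} : m ^ i = m ^ j ↔ (2 : ℤ) ^ (k + 2) ∣ j - i := by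
  have := CfsgLib.GammaRankOne.zp D.ord (i := i) (j := j)
  push_cast at this
  exact this

omit [Finite H] C in
theorem zpm_one {i : ℤ} : m ^ i = 1 ↔ (2 : ℤ) ^ (k + 2) ∣ i := by
  have := CfsgLib.GammaRankOne.zp_one D.ord (i := i)
  push_cast at this
  exact this

omit [Finite H] C in
theorem pow_y (i : ℤ) : m ^ i * y = y * m ^ (c * i) := by
  rw [← CfsgLib.GammaRankOne.conj_zp D.conj i, inv_eq_of_mul_eq_one_right D.ysq, ← mul_assoc,
    ← mul_assoc, D.ysq, one_mul]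

omit [Finite H] C in
theorem c_sq : (2 : ℤ) ^ (k + 2) ∣ c * c - 1 := by
  rcases D.cc with rfl | ⟨-, rfl⟩
  · norm_num
  · exact ⟨2 ^ k - 1, by ring⟩

omit [Finite H] in
theorem z_eq : u * u = m ^ ((2 : ℤ) ^ (k + 1)) := by
  have hmem : ∃ f : ℤ, u * u = m ^ f := by
    obtain ⟨i, e | e⟩ := D.gen u C.uS
    · exact ⟨i + i, by rw [e, zpow_add]⟩
    · refine ⟨c * i + i, ?_⟩
      rw [e, show y * m ^ i * (y * m ^ i) = y * (m ^ i * y) * m ^ i by group, pow_y D, ← mul_assoc,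
        D.ysq, one_mul, zpow_add]
  obtain ⟨f, hf⟩ := hmem
  have h2 : (2 : ℤ) ^ (k + 2) ∣ f + f := by
    rw [← zpm_one D, zpow_add, ← hf, C.z_sq]
  have h1 : ¬ (2 : ℤ) ^ (k + 2) ∣ f := fun h => C.z_ne_one (hf.trans ((zpm_one D).2 h))
  rw [hf, zpm D]
  obtain ⟨q, hq⟩ := h2
  rcases Int.even_or_odd q with ⟨r, hr⟩ | ⟨r, hr⟩
  · exact absurd ⟨r, by rw [hr] at hq; linarith⟩ h1
  · refine ⟨-r, ?_⟩
    have hp : (2 : ℤ) ^ (k + 2) = 2 * 2 ^ (k + 1) := by ring
    rw [hr] at hq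
    have : f = (2 : ℤ) ^ (k + 1) * (2 * r + 1) := by rw [hp] at hq; linarith
    rw [this, hp]; ring

omit [Finite H] in
theorem sq_mem_zpowers {p : H} (hp : p ∈ (P : Subgroup H)) : ∃ i : ℤ, p * p = m ^ i := by
  have hS : ∀ s, Mem A P s → ∀ f : ℤ, ∀ r, (r = m ^ f ∨ r = y * m ^ f) →
      ((∃ i : ℤ, s = m ^ i) ↔ ∃ i : ℤ, r = m ^ i) → ∃ i : ℤ, s * r = m ^ i := by
    intro s hs f r hr hiff
    obtain ⟨i, e | e⟩ := D.gen s hs
    · rcases hr with hr | hr
      · exact ⟨i + f, by rw [e, hr, zpow_add]⟩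
      · obtain ⟨f', hf'⟩ := hiff.1 ⟨i, e⟩
        exact ⟨i + f', by rw [e, hf', zpow_add]⟩
    · rcases hr with hr | hr
      · obtain ⟨i', hi'⟩ := hiff.2 ⟨f, hr⟩
        exact ⟨i' + f, by rw [hi', hr, zpow_add]⟩
      · refine ⟨c * i + f, ?_⟩
        rw [e, hr, show y * m ^ i * (y * m ^ f) = y * (m ^ i * y) * m ^ f by group, pow_y D, ← mul_assoc,
          D.ysq, one_mul, zpow_add]
  rcases C.mem_or p with h | h
  · obtain ⟨i, hi⟩ := D.gen p ⟨h, hp⟩
    exact hS p ⟨h, hp⟩ i p hi Iff.rfl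
  · have hs : Mem A P (p * t) := ⟨h, mul_mem hp C.tP⟩
    obtain ⟨f, hf⟩ := D.gen _ (C.tS hs)
    have e : p * p = p * t * (t * (p * t) * t) := by
      rw [show p * t * (t * (p * t) * t) = p * (t * t) * p * (t * t) by group, C.t2, mul_one, mul_one]
    rw [e]
    refine hS _ hs f _ hf ?_
    have key : ∀ (s : H) (i : ℤ), s = m ^ i → ∃ i' : ℤ, t * s * t = m ^ i' := by
      intro s i hi
      obtain ⟨a, ha⟩ := D.norm t C.tP
      refine ⟨a * i, ?_⟩
      rw [hi, C.conj_t, CfsgLib.GammaRankOne.conj_zp ha.symm]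
    refine ⟨fun ⟨i, hi⟩ => key _ i hi, fun ⟨i, hi⟩ => ?_⟩
    obtain ⟨i', hi'⟩ := key _ i hi
    rw [C.tconj_tconj] at hi'
    exact ⟨i', hi'⟩

/-- `u` lies in the cyclic subgroup. -/
theorem u_mem_false {j : ℤ} (hj : u = m ^ j) (hno : ∀ y', ¬ Four A P u y') : False := by
  obtain ⟨a, ha⟩ := D.norm t C.tP
  have htm : ∀ i : ℤ, t * m ^ i * t = m ^ (a * i) := fun i => by
    rw [C.conj_t, CfsgLib.GammaRankOne.conj_zp ha.symm]
  have hzh := C.z_eq D
  -- `a ≡ 1 [4]`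
  have ha4 : (4 : ℤ) ∣ a - 1 := by
    have h1 : (2 : ℤ) ^ (k + 2) ∣ 2 ^ (k + 1) - (j + j) := by
      rw [← zpm D, zpow_add, ← hj, hzh]
    have h2 : (2 : ℤ) ^ (k + 2) ∣ j - a * j := by
      rw [← zpm D, ← htm, ← hj, C.tconj_eq_of_commute C.tu]
    obtain ⟨q, hq⟩ := h1
    obtain ⟨r, hr⟩ := h2
    have hj' : j = (2 : ℤ) ^ k * (1 - 2 * q) := by rw [pow_succ, pow_add] at hq; norm_num at hq; linarith
    have e : (2 : ℤ) ^ k * ((a - 1) * (1 - 2 * q)) = 2 ^ k * (-4 * r) := by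
      have : j - a * j = (2 : ℤ) ^ k * (4 * r) := by rw [hr, pow_add]; norm_num; ring
      rw [hj'] at this; linarith
    have e' := mul_left_cancel₀ (pow_ne_zero k (by norm_num)) e
    exact ⟨-r + 2 * q * (-r) + q * q * (a - 1), by linear_combination (1 + 2 * q) * e'⟩
  obtain ⟨e, he⟩ : ∃ e : ℤ, t * y * t = y * m ^ e := by
    obtain ⟨e, h | h⟩ := D.gen _ (C.tS D.yM)
    · refine absurd ⟨a * e, ?_⟩ D.ynot
      show m ^ (a * e) = y
      rw [← htm, ← h, C.tconj_tconj]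
    · exact ⟨e, h⟩
  have hee : (2 : ℤ) ^ (k + 2) ∣ e + a * e := by
    rw [← zpm_one D, zpow_add, ← htm]
    refine mul_left_cancel (a := y) ?_
    calc y * (m ^ e * (t * m ^ e * t)) = t * y * t * (t * m ^ e * t) := by rw [he]; group
      _ = t * (t * y * t) * t := by rw [← C.tconj_mul, ← he]
      _ = y * 1 := by rw [C.tconj_tconj, mul_one]
  obtain ⟨α, hα⟩ := ha4
  rcases Nat.eq_zero_or_pos k with rfl | hk
  · -- a four-group
    have hz2 : u * u = m * m := by rw [hzh]; norm_num; exact pow_two m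
    have hev : ∀ i : ℤ, y * m ^ (i + i) = y ∨ y * m ^ (i + i) = u * u * y := by
      intro i
      have hzy : u * u * y = y * (u * u) := (C.z_comm D.yM.2).symm
      rw [zpow_add, ← (Commute.refl m).mul_zpow, ← hz2, hzy]
      rcases Int.even_or_odd i with ⟨r, hr⟩ | ⟨r, hr⟩
      · left; rw [hr, zpow_add, ← (Commute.refl (u * u)).mul_zpow, C.z_sq, one_zpow, mul_one]
      · right; rw [hr, zpow_add, zpow_mul, zpow_two, C.z_sq, one_zpow, one_mul, zpow_one]
    have hc : c = -1 := D.cc.resolve_right fun h => absurd h.1 (by norm_num)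
    have hSc : ∀ s, Mem A P s → s * y * s⁻¹ = y ∨ s * y * s⁻¹ = u * u * y := by
      intro s hs
      obtain ⟨i, rfl | rfl⟩ := D.gen s hs
      · rw [pow_y D, mul_assoc, ← zpow_neg, ← zpow_add, hc, show -1 * i + -i = -i + -i by ring]
        exact hev _
      · rw [show y * m ^ i * y * (y * m ^ i)⁻¹ = y * (m ^ i * y * (m ^ i)⁻¹) * y⁻¹ by group, pow_y D,
          mul_assoc y (m ^ (c * i)), ← zpow_neg, ← zpow_add, ← mul_assoc y y, D.ysq, one_mul,
          inv_eq_of_mul_eq_one_right D.ysq, pow_y D, hc, show -1 * (-1 * i + -i) = i + i by ring]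
        exact hev _
    have hte : t * y * t = y ∨ t * y * t = u * u * y := by
      obtain ⟨r, hr⟩ : (2 : ℤ) ∣ e := by
        obtain ⟨q, hq⟩ := hee
        have ha' : a = 1 + 4 * α := by linarith
        rw [ha'] at hq
        norm_num at hq
        exact ⟨q - α * e, by linarith⟩
      rw [he, hr, two_mul]; exact hev r
    refine hno y ⟨D.yM, D.ysq, fun h => D.ynot (h ▸ one_mem _), fun h => D.ynot ?_, fun p hp => ?_⟩
    · rw [h, hz2]; exact mul_mem (mem_zpowers m) (mem_zpowers m)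
    rcases C.mem_or p with h | h
    · exact hSc p ⟨h, hp⟩
    have hs : Mem A P (p * t) := ⟨h, mul_mem hp C.tP⟩
    have e1 : p * y * p⁻¹ = p * t * (t * y * t) * (p * t)⁻¹ := by
      rw [mul_inv_rev, C.t_inv, show p * t * (t * y * t) * (t * p⁻¹) = p * (t * t) * y * (t * t) * p⁻¹ by
        group, C.t2, mul_one, mul_one]
    have hzs : p * t * (u * u) = u * u * (p * t) := C.z_comm hs.2
    rw [e1]
    rcases hte with h' | h' <;> rw [h']
    · exact hSc _ hs
    · rw [← mul_assoc (p * t), hzs, mul_assoc (u * u) (p * t) y, mul_assoc (u * u)]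
      rcases hSc _ hs with h'' | h'' <;> rw [h'']
      · exact Or.inr rfl
      · left; rw [← mul_assoc, C.z_sq, one_mul]
  -- `t` centralises a large part of `⟨m⟩`
  obtain ⟨l, rfl⟩ : ∃ l, k = l + 1 := ⟨k - 1, by omega⟩
  have haa : (2 : ℤ) ^ (l + 1 + 2) ∣ a * a - 1 := by
    rw [dvd_sub_comm, ← zpm D, ← htm,
      show m ^ a = t * m ^ (1 : ℤ) * t by rw [htm, mul_one], C.tconj_tconj]
  have hnotm : ∀ i : ℤ, t * m ^ i * t = m ^ i → (2 : ℤ) ^ (l + 1 + 2) ∣ 4 * i := by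
    intro i hi
    rw [← zpm_one D, mul_comm, zpow_mul]
    rcases C.u_cases (C.fix _ (A.zpow_mem D.mM.1 i) ((P : Subgroup H).zpow_mem D.mM.2 i) (C.commute_of_tconj_eq hi)) with h | h | h | h <;>
      rw [h]
    · exact one_zpow _
    all_goals
      rw [show (4 : ℤ) = 2 + 2 from rfl, zpow_add, zpow_two]
    · exact C.z_sq
    · rw [C.z_sq, one_mul]
    · rw [show u * u * u * (u * u * u) = u * u * (u * u) * (u * u) by group, C.z_sq, one_mul, C.z_sq]
  rcases CfsgLib.GammaRankOne.sqrt_one haa with ⟨r, hr⟩ | ⟨r, hr⟩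
  swap
  · have e1 : (4 : ℤ) * 2 ^ l * r = a + 1 := by rw [hr]; ring
    have : (4 : ℤ) ∣ 2 := ⟨2 ^ l * r - α, by linarith⟩
    norm_num at this
  rcases Int.even_or_odd r with ⟨r', hr'⟩ | ⟨r', hr'⟩
  · have h := hnotm 1 (by
      rw [htm, mul_one, zpm D]
      exact ⟨-r', by rw [hr'] at hr; linear_combination -hr⟩)
    obtain ⟨q, hq⟩ := h
    have : (8 : ℤ) ≤ 2 ^ (l + 1 + 2) := by
      calc (8 : ℤ) = 2 ^ 3 := by norm_num
        _ ≤ 2 ^ (l + 1 + 2) := pow_le_pow_right₀ (by norm_num) (by omega)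
    have := Int.le_of_dvd (by norm_num) (Dvd.intro q hq.symm : (2 : ℤ) ^ (l + 1 + 2) ∣ 4 * 1)
    omega
  have h := hnotm 2 (by
    rw [htm, zpm D]
    exact ⟨-r, by linear_combination (-2 : ℤ) * hr⟩)
  have hl : l = 0 := by
    by_contra hl
    have h16 : (16 : ℤ) ≤ 2 ^ (l + 1 + 2) := by
      calc (16 : ℤ) = 2 ^ 4 := by norm_num
        _ ≤ 2 ^ (l + 1 + 2) := pow_le_pow_right₀ (by norm_num) (by omega)
    have := Int.le_of_dvd (by norm_num) h
    omega
  subst hl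
  norm_num at hr hee hj hzh
  obtain ⟨q, hq⟩ := hee
  have ha' : a = 5 + 8 * r' := by rw [hr'] at hr; linarith
  obtain ⟨f, rfl⟩ : (4 : ℤ) ∣ e := ⟨e - q + e * r', by
    rw [ha'] at hq
    linarith⟩
  have hfix : t * (y * m ^ f) * t = y * m ^ f := by
    rw [C.tconj_mul, he, htm, mul_assoc, ← zpow_add]
    congr 1
    rw [zpm D, ha']
    exact ⟨-(f * (1 + r')), by norm_num; ring⟩
  refine D.ynot ?_
  have hmem := C.fix _ (mul_mem D.yM.1 (A.zpow_mem D.mM.1 f)) (mul_mem D.yM.2 ((P : Subgroup H).zpow_mem D.mM.2 f))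
    (C.commute_of_tconj_eq hfix)
  have hum : zpowers u ≤ zpowers m := zpowers_le.2 ⟨j, hj.symm⟩
  exact (Subgroup.mul_mem_cancel_right _ (zpow_mem (mem_zpowers m) f)).1 (hum hmem)

/-- `u` lies outside the cyclic subgroup. -/
theorem u_not_mem_false {j : ℤ} (hj : u = y * m ^ j) : False := by
  classical
  haveI : Fact (Nat.Prime 2) := ⟨Nat.prime_two⟩
  haveI := C.normal
  have hzh := C.z_eq D
  have hu2 : u * u = m ^ (c * j + j) := by
    rw [hj, show y * m ^ j * (y * m ^ j) = y * (m ^ j * y) * m ^ j by group, pow_y D, ← mul_assoc,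
      D.ysq, one_mul, zpow_add]
  obtain ⟨hk, hcv⟩ : 1 ≤ k ∧ c = -1 + 2 ^ (k + 1) := D.cc.resolve_left fun h => C.z_ne_one (by
    rw [hu2, h, show -1 * j + j = 0 by ring, zpow_zero])
  obtain ⟨l, rfl⟩ : ∃ l, k = l + 1 := ⟨k - 1, by omega⟩
  have hjodd : ∃ q, j = 2 * q + 1 := by
    rcases Int.even_or_odd j with ⟨q, hq⟩ | h
    · refine absurd ?_ C.z_ne_one
      rw [hu2, zpm_one D, hcv, hq]
      exact ⟨q, by ring⟩
    · exact h
  obtain ⟨a₀, ha₀⟩ := D.norm t C.tP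
  have htm₀ : ∀ i : ℤ, t * m ^ i * t = m ^ (a₀ * i) := fun i => by
    rw [C.conj_t, CfsgLib.GammaRankOne.conj_zp ha₀.symm]
  have hfixm : ∀ i : ℤ, t * m ^ i * t = m ^ i → (2 : ℤ) ^ (l + 1 + 1) ∣ i := by
    intro i hi
    have hnu : ∀ w : H, w ∈ zpowers m → u * w ∉ zpowers m := fun w hw h => D.ynot (by
      have hu : u ∈ zpowers m := (Subgroup.mul_mem_cancel_right _ hw).1 h
      rw [hj] at hu
      exact (Subgroup.mul_mem_cancel_right _ (zpow_mem (mem_zpowers m) j)).1 hu)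
    have h2 : (2 : ℤ) ^ (l + 1 + 2) ∣ 2 * i := by
      rw [← zpm_one D, two_mul, zpow_add]
      rcases C.u_cases (C.fix _ (A.zpow_mem D.mM.1 i) ((P : Subgroup H).zpow_mem D.mM.2 i) (C.commute_of_tconj_eq hi))
        with h | h | h | h
      · rw [h, one_mul]
      · exact absurd (by rw [mul_one, ← h]; exact zpow_mem (mem_zpowers m) i) (hnu 1 (one_mem _))
      · rw [h]; exact C.z_sq
      · refine absurd ?_ (hnu (u * u) (hzh ▸ zpow_mem (mem_zpowers m) _))
        rw [← mul_assoc, ← h]; exact zpow_mem (mem_zpowers m) i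
    obtain ⟨q, hq⟩ := h2
    exact ⟨q, by
      have : (2 : ℤ) * i = 2 * (2 ^ (l + 1 + 1) * q) := by rw [hq]; ring
      linarith⟩
  obtain ⟨a, ha, hacases⟩ : ∃ a : ℤ, (∀ i : ℤ, t * m ^ i * t = m ^ (a * i)) ∧ (a = c ∨ a = -1) := by
    have haa : (2 : ℤ) ^ (l + 1 + 2) ∣ a₀ * a₀ - 1 := by
      rw [dvd_sub_comm, ← zpm D, ← htm₀,
        show m ^ a₀ = t * m ^ (1 : ℤ) * t by rw [htm₀, mul_one], C.tconj_tconj]
    rcases CfsgLib.GammaRankOne.sqrt_one haa with ⟨r, hr⟩ | ⟨r, hr⟩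
    · exfalso
      have h := hfixm 2 (by rw [htm₀, zpm D]; exact ⟨-r, by linear_combination (-2 : ℤ) * hr⟩)
      have : (4 : ℤ) ≤ 2 ^ (l + 1 + 1) := by
        calc (4 : ℤ) = 2 ^ 2 := by norm_num
          _ ≤ 2 ^ (l + 1 + 1) := pow_le_pow_right₀ (by norm_num) (by omega)
      have := Int.le_of_dvd (by norm_num) h
      omega
    rcases Int.even_or_odd r with ⟨r', hr'⟩ | ⟨r', hr'⟩
    · refine ⟨-1, fun i => ?_, Or.inr rfl⟩
      rw [htm₀, zpm D]
      exact ⟨-(i * r'), by rw [hr'] at hr; linear_combination (-i) * hr⟩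
    · refine ⟨c, fun i => ?_, Or.inl rfl⟩
      rw [htm₀, zpm D, hcv]
      exact ⟨-(i * r'), by rw [hr'] at hr; linear_combination (-i) * hr⟩
  have hty : t * y * t = y * m ^ (j - a * j) := by
    calc t * y * t = t * (u * m ^ (-j)) * t := by rw [hj, zpow_neg, mul_inv_cancel_right]
      _ = y * m ^ j * m ^ (a * (-j)) := by rw [C.tconj_mul, C.tconj_eq_of_commute C.tu, ha, ← hj]
      _ = y * m ^ (j - a * j) := by rw [mul_assoc, ← zpow_add]; congr 2; ring
  have hinvM : ∀ f : ℤ, m ^ f * m ^ f = 1 → m ^ f = 1 ∨ m ^ f = u * u := by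
    intro f hf
    rw [← zpow_add, zpm_one D] at hf
    obtain ⟨q, hq⟩ := hf
    rcases Int.even_or_odd q with ⟨r, hr⟩ | ⟨r, hr⟩
    · left; rw [zpm_one D]; exact ⟨r, by rw [hr] at hq; linarith⟩
    · right; rw [hzh, zpm D]
      refine ⟨-r, ?_⟩
      rw [hr] at hq
      have hp : (2 : ℤ) ^ (l + 1 + 2) = 2 * 2 ^ (l + 1 + 1) := by ring
      have : f = (2 : ℤ) ^ (l + 1 + 1) * (2 * r + 1) := by rw [hp] at hq; linarith
      rw [this, hp]; ring
  have hyz : y ≠ u * u := fun h => D.ynot (by rw [h, hzh]; exact zpow_mem (mem_zpowers m) _)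
  rcases hacases with rfl | rfl
  · -- `t u` centralises `y`
    obtain ⟨b, hb, hbM, hbS⟩ := C.transfer_into (zpowers m) D.yM D.ynot (fun s hs => by
      obtain ⟨i, h | h⟩ := D.gen s hs
      · exact Or.inl ⟨i, h.symm⟩
      · refine Or.inr ⟨a * i, ?_⟩
        show m ^ (a * i) = s * y
        rw [h, mul_assoc, pow_y D, ← mul_assoc, D.ysq, one_mul]) D.yM D.ysq
    obtain ⟨f, hf⟩ := hbM
    have hf' : m ^ f = b * y * b⁻¹ := hf
    have hy1 : y ≠ 1 := fun h => D.ynot (h ▸ one_mem _)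
    have hbz : b * y * b⁻¹ = u * u := by
      rcases hinvM f (by
        rw [hf', show b * y * b⁻¹ * (b * y * b⁻¹) = b * (y * y) * b⁻¹ by group, D.ysq]; group) with h | h
      · exact absurd (conj_eq_one_iff.1 (hf'.symm.trans h)) hy1
      · exact hf'.symm.trans h
    refine C.extremal (fun p hp hp2 => ?_) hyz (q := t * u) ?_ ?_ hbz
    · obtain ⟨i, hi⟩ := C.sq_mem_zpowers D hp
      rw [hi] at hp2 ⊢
      exact hinvM i hp2
    · have h1 : u * y * u⁻¹ = y * m ^ (a * (a * j) - a * j) := by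
        rw [hj, mul_inv_rev, ← zpow_neg, inv_eq_of_mul_eq_one_right D.ysq,
          show y * m ^ j * y * (m ^ (-j) * y) = y * (m ^ j * y) * (m ^ (-j) * y) by group, pow_y D,
          pow_y D, ← mul_assoc y y, D.ysq, one_mul, ← mul_assoc, pow_y D, mul_assoc, ← zpow_add]
        congr 2; ring
      have h2 : t * (u * y * u⁻¹) * t = y := by
        rw [h1, C.tconj_mul, hty, ha, mul_assoc, ← zpow_add]
        refine mul_eq_left.2 ((zpm_one D).2 ?_)
        obtain ⟨q, hq⟩ := c_sq D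
        exact ⟨-(q * j * (1 - a)), by linear_combination (-(j * (1 - a))) * hq⟩
      calc t * u * y = t * (u * y * u⁻¹) * t * (t * u) := by
            rw [show t * (u * y * u⁻¹) * t * (t * u) = t * u * y * u⁻¹ * (t * t) * u by group, C.t2,
              mul_one, inv_mul_cancel_right]
        _ = y * (t * u) := by rw [h2]
    · rw [show t * u * (t * u) = t * (u * t) * u by group, ← C.tu, ← mul_assoc, C.t2, one_mul]
  -- `t` inverts `m`
  have hmm : m * m = m ^ (2 : ℤ) := (zpow_two m).symm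
  have hym : y * (m * m) * y⁻¹ = (m * m)⁻¹ := by
    rw [hmm, CfsgLib.GammaRankOne.conj_zp D.conj, ← zpow_neg, zpm D, hcv]
    exact ⟨-1, by ring⟩
  let W : Subgroup H := dih (m * m) y hym (D.ysq ▸ one_mem _)
  have hWeven : ∀ p, p ∈ W ↔ ∃ i : ℤ, p = m ^ (i + i) ∨ p = y * m ^ (i + i) := by
    intro p
    refine mem_dih.trans ?_
    simp only [(Commute.refl m).mul_zpow, ← zpow_add]
  have hWA : W ≤ A ⊓ (P : Subgroup H) := by
    intro p hp
    obtain ⟨i, h | h⟩ := (hWeven p).1 hp <;> rw [h]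
    · exact zpow_mem D.mM _
    · exact mul_mem D.yM (zpow_mem D.mM _)
  have hodd : ∀ i : ℤ, ¬ (2 : ℤ) ^ (l + 1 + 2) ∣ 2 * i + 1 := by
    intro i h
    obtain ⟨r, hr⟩ := h
    have : (2 : ℤ) ∣ 1 := ⟨2 ^ (l + 1 + 1) * r - i, by ring_nf; ring_nf at hr; linarith⟩
    norm_num at this
  have hnoty : ∀ i f : ℤ, y * m ^ i ≠ m ^ f := fun i f h => D.ynot ⟨f - i, by
    show m ^ (f - i) = y
    rw [zpow_sub, ← h, mul_inv_cancel_right]⟩
  have hoddW : ∀ i : ℤ, m ^ (2 * i + 1) ∉ W ∧ y * m ^ (2 * i + 1) ∉ W := by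
    intro i
    refine ⟨fun h => ?_, fun h => ?_⟩ <;> obtain ⟨f, h | h⟩ := (hWeven _).1 h
    · rw [zpm D, show f + f - (2 * i + 1) = 2 * (f - i - 1) + 1 by ring] at h
      exact hodd _ h
    · exact hnoty _ _ h.symm
    · exact hnoty _ _ h
    · rw [mul_left_cancel_iff, zpm D, show f + f - (2 * i + 1) = 2 * (f - i - 1) + 1 by ring] at h
      exact hodd _ h
  have hpar : ∀ s, Mem A P s → ∀ i : ℤ, (s = m ^ i ∨ s = y * m ^ i) →
      (Even i → s ∈ W) ∧ (¬ Even i → s ∉ W) := by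
    intro s _ i hi
    refine ⟨fun ⟨r, hr⟩ => (hWeven s).2 ⟨r, hr ▸ hi⟩, fun ho => ?_⟩
    obtain ⟨r, hr⟩ := Int.not_even_iff_odd.1 ho
    rcases hi with h | h <;> rw [h, hr]
    · exact (hoddW r).1
    · exact (hoddW r).2
  let T : Sylow 2 A := CfsgLib.GammaRankOne.sylowIn A P
  let Q : Subgroup (T : Subgroup A) := (W.subgroupOf A).subgroupOf (T : Subgroup A)
  have hQ : Q.index = 2 := by
    refine Subgroup.index_eq_two_iff.2 ⟨⟨⟨m, D.mM.1⟩, D.mM.2⟩, fun q => ?_⟩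
    have hq : Mem A P ((q : A) : H) := ⟨(q : A).2, q.2⟩
    obtain ⟨i, hi⟩ := D.gen _ hq
    have hi' : ((q : A) : H) * m = m ^ (i + 1) ∨ ((q : A) : H) * m = y * m ^ (i + 1) :=
      hi.imp (fun h => by rw [h, zpow_add_one]) (fun h => by rw [h, zpow_add_one, mul_assoc])
    have h1 := hpar _ hq i hi
    have h2 := hpar _ (mul_mem hq D.mM) (i + 1) hi'
    by_cases he : Even i
    · exact Or.inr ⟨h1.1 he, fun h => h2.2 (by rw [Int.even_add_one]; exact not_not.2 he) h⟩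
    · exact Or.inl ⟨h2.1 (Int.even_add_one.2 he), fun h => h1.2 he h⟩
  obtain ⟨b, hbT, hbQ⟩ := exists_conj_mem_of_index_two C.perf T Q hQ (u := ⟨u, C.uA⟩) C.uP
    (Subtype.ext C.u_pow_four) (fun q hq => by
      have hq2 : ((q : A) : H) * ((q : A) : H) = 1 := congrArg (fun r : (T : Subgroup A) => ((r : A) : H)) hq
      obtain ⟨i, hi | hi⟩ := D.gen _ ⟨(q : A).2, q.2⟩
      · refine (hpar _ ⟨(q : A).2, q.2⟩ i (Or.inl hi)).1 ?_
        rw [hi, ← zpow_add, zpm_one D] at hq2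
        obtain ⟨r, hr⟩ := hq2
        exact ⟨2 ^ (l + 1) * r, by ring_nf; ring_nf at hr; linarith⟩
      · refine (hpar _ ⟨(q : A).2, q.2⟩ i (Or.inr hi)).1 ?_
        rw [hi, show y * m ^ i * (y * m ^ i) = y * (m ^ i * y) * m ^ i by group, pow_y D, ← mul_assoc,
          D.ysq, one_mul, ← zpow_add, zpm_one D, hcv] at hq2
        obtain ⟨r, hr⟩ := hq2
        refine ⟨r, ?_⟩
        have e : (2 : ℤ) ^ (l + 1 + 1) * i = 2 ^ (l + 1 + 1) * (r + r) := by linear_combination hr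
        exact mul_left_cancel₀ (pow_ne_zero _ (by norm_num)) e)
  obtain ⟨w, hw⟩ : ∃ w, w = (b : H)⁻¹ * u * b := ⟨_, rfl⟩
  have hw2 : w * w ≠ 1 := fun h => C.z_ne_one (by
    rw [hw] at h
    calc u * u = (b : H) * ((b : H)⁻¹ * u * b * ((b : H)⁻¹ * u * b)) * (b : H)⁻¹ := by group
      _ = 1 := by rw [h]; group)
  obtain ⟨i₀, hwi | hwi⟩ := (hWeven w).1 (hw ▸ hbQ)
  swap
  · refine hw2 ?_
    rw [hwi, show y * m ^ (i₀ + i₀) * (y * m ^ (i₀ + i₀)) = y * (m ^ (i₀ + i₀) * y) * m ^ (i₀ + i₀) by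
      group, pow_y D, ← mul_assoc, D.ysq, one_mul, ← zpow_add, zpm_one D, hcv]
    exact ⟨i₀, by ring⟩
  -- the centralizer of `w`
  have hwA : w ∈ A := hwi ▸ A.zpow_mem D.mM.1 _
  have hwP : w ∈ (P : Subgroup H) := hwi ▸ (P : Subgroup H).zpow_mem D.mM.2 _
  have hym' : y * w * y⁻¹ = w⁻¹ := by
    rw [hwi, CfsgLib.GammaRankOne.conj_zp D.conj, ← zpow_neg, zpm D, hcv]
    exact ⟨-i₀, by ring⟩
  have htw : t * w * t⁻¹ = w⁻¹ := by rw [← C.conj_t, hwi, ha, ← zpow_neg, neg_one_mul]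
  have hmw : ∀ i : ℤ, m ^ i * w * (m ^ i)⁻¹ = w := fun i => by
    rw [hwi, ← zpow_add, ← zpow_neg, ← zpow_add]; congr 1; ring
  have hSw : ∀ s, Mem A P s → s * w * s⁻¹ = w ∨ s * w * s⁻¹ = w⁻¹ := by
    intro s hs
    obtain ⟨i, h | h⟩ := D.gen s hs <;> rw [h]
    · exact Or.inl (hmw i)
    · right
      rw [show y * m ^ i * w * (y * m ^ i)⁻¹ = y * (m ^ i * w * (m ^ i)⁻¹) * y⁻¹ by group, hmw, hym']
  have hPw : ∀ p ∈ (P : Subgroup H), p * w * p⁻¹ = w ∨ p * w * p⁻¹ = w⁻¹ := by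
    intro p hp
    rcases C.mem_or p with h | h
    · exact hSw p ⟨h, hp⟩
    have e : p * w * p⁻¹ = (p * t * (t * w * t⁻¹) * (p * t)⁻¹) := by
      rw [mul_inv_rev, C.t_inv, show p * t * (t * w * t) * (t * p⁻¹) = p * (t * t) * w * (t * t) * p⁻¹ by
        group, C.t2, mul_one, mul_one]
    rw [e, htw, ← conj_inv]
    rcases hSw _ ⟨h, mul_mem hp C.tP⟩ with h' | h' <;> rw [h']
    · exact Or.inr rfl
    · exact Or.inl (inv_inv w)
  let K : Subgroup H := centralizer ({w} : Set H)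
  let W₀ : Subgroup H := (P : Subgroup H) ⊓ K
  have hW₀i : (W₀.subgroupOf (P : Subgroup H)).index = 2 := by
    refine Subgroup.index_eq_two_iff.2 ⟨⟨y, D.yM.2⟩, fun p => ?_⟩
    have hflip : ∀ q : H, q * w * q⁻¹ = w ↔ q ∈ K := fun q => by
      rw [mem_centralizer_singleton_iff, mul_inv_eq_iff_eq_mul]
    have hww : w ≠ w⁻¹ := fun h => hw2 (eq_inv_iff_mul_eq_one.1 h)
    have e : (p : H) * y * w * ((p : H) * y)⁻¹ = ((p : H) * w * (p : H)⁻¹)⁻¹ := by
      rw [show (p : H) * y * w * ((p : H) * y)⁻¹ = (p : H) * (y * w * y⁻¹) * (p : H)⁻¹ by group, hym',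
        conj_inv]
    rcases hPw p p.2 with h | h
    · refine Or.inr ⟨⟨p.2, (hflip _).1 h⟩, fun h' => hww ?_⟩
      have := (hflip ((p : H) * y)).2 h'.2
      rw [e, h] at this
      exact this.symm
    · refine Or.inl ⟨⟨mul_mem p.2 D.yM.2, (hflip ((p : H) * y)).1 (by rw [e, h, inv_inv])⟩,
        fun h' => hww ?_⟩
      have := (hflip _).2 h'.2
      exact this.symm.trans h
  have hPle : Nat.card (P : Subgroup H) ≤ 2 * Nat.card W₀ := by
    have h := (W₀.subgroupOf (P : Subgroup H)).index_mul_card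
    rw [hW₀i, Nat.card_congr (Subgroup.subgroupOfEquivOfLe (show W₀ ≤ (P : Subgroup H) from inf_le_left)).toEquiv] at h
    omega
  obtain ⟨R, hR⟩ := IsPGroup.exists_le_sylow
    (show IsPGroup 2 (W₀.subgroupOf K) from (P.2.to_le inf_le_left).comap_subtype)
  have hRP : (R : Subgroup K).map K.subtype ≤ (P : Subgroup H) := by
    have hp : IsPGroup 2 ((R : Subgroup K).map K.subtype) := R.2.map K.subtype
    obtain ⟨R', hR'⟩ := hp.exists_le_sylow
    have hWle : W₀ ≤ (R : Subgroup K).map K.subtype := fun q hq =>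
      ⟨⟨q, hq.2⟩, hR (show (⟨q, hq.2⟩ : K) ∈ W₀.subgroupOf K from hq), rfl⟩
    rcases eq_or_lt_of_le hR' with heq | hlt
    · exfalso
      obtain ⟨g, hg⟩ := MulAction.exists_smul_eq H R' P
      have hwR : w ∈ (R' : Subgroup H) := heq ▸ hWle ⟨hwP, mem_centralizer_singleton_iff.2 rfl⟩
      have hcen : ∀ q ∈ (R' : Subgroup H), q * w = w * q := by
        intro q hq
        rw [← heq] at hq
        obtain ⟨q', -, rfl⟩ := hq
        exact mem_centralizer_singleton_iff.1 q'.2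
      have hconj : ∀ q ∈ (P : Subgroup H), g⁻¹ * q * g ∈ (R' : Subgroup H) := by
        intro q hq
        rw [← hg, Sylow.coe_subgroup_smul, Subgroup.mem_pointwise_smul_iff_inv_smul_mem] at hq
        simpa [MulAut.smul_def] using hq
      have hwP' : g * w * g⁻¹ ∈ (P : Subgroup H) := by
        rw [← hg, Sylow.coe_subgroup_smul, Subgroup.mem_pointwise_smul_iff_inv_smul_mem]
        simpa [MulAut.smul_def, mul_assoc] using hwR
      have hcP : ∀ q ∈ (P : Subgroup H), q * (g * w * g⁻¹) = g * w * g⁻¹ * q := by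
        intro q hq
        calc q * (g * w * g⁻¹) = g * (g⁻¹ * q * g * w) * g⁻¹ := by group
          _ = _ := by rw [hcen _ (hconj q hq)]; group
      have hcm := hcP m D.mM.2
      have huc : ∀ v : H, v * m = m * v → v = u ∨ v = u * u * u → False := by
        intro v hv hv'
        have hum : u * m = m * u := by
          rcases hv' with rfl | rfl
          · exact hv
          · have hzm : Commute (u * u) m := (C.z_comm D.mM.2).symm
            have : u = u * u * (u * u * u) := by rw [← mul_assoc, C.z_sq, one_mul]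
            rw [this]
            exact hzm.mul_left hv
        rw [hj, mul_assoc, show m ^ j * m = m * m ^ j from ((Commute.refl m).zpow_left j).eq, ← mul_assoc,
          ← mul_assoc, mul_left_inj] at hum
        have h1 : m ^ c = m := by rw [← D.conj, hum, mul_inv_cancel_right]
        conv_rhs at h1 => rw [← zpow_one m]
        rw [zpm D, hcv] at h1
        obtain ⟨r, hr⟩ := h1
        have : (4 : ℤ) ∣ 2 := ⟨2 ^ l + 2 ^ l * 2 * r, by linear_combination hr⟩
        norm_num at this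
      have hgA : g * w * g⁻¹ ∈ A := C.normal.conj_mem w hwA g
      rcases C.u_cases (C.fix _ hgA hwP' (hcP t C.tP)) with h | h | h | h
      · exact hw2 (by rw [conj_eq_one_iff.1 h, one_mul])
      · exact huc _ hcm.symm (Or.inl h)
      · refine hw2 ?_
        have : g * (w * w) * g⁻¹ = 1 := by
          rw [show g * (w * w) * g⁻¹ = g * w * g⁻¹ * (g * w * g⁻¹) by group, h, C.z_sq]
        exact conj_eq_one_iff.1 this
      · exact huc _ hcm.symm (Or.inr h)
    · refine (le_of_eq (eq_of_le_of_card_ge hWle ?_).symm).trans inf_le_left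
      obtain ⟨d, hd⟩ := Subgroup.card_dvd_of_le hlt.le
      have hR'c : Nat.card (R' : Subgroup H) = Nat.card (P : Subgroup H) := R'.card_eq_multiplicity.trans P.card_eq_multiplicity.symm
      rcases d with _ | _ | d
      · rw [mul_zero] at hd; exact absurd hd Nat.card_pos.ne'
      · rw [zero_add, mul_one] at hd
        exact absurd (eq_of_le_of_card_ge hlt.le hd.le) hlt.ne
      · rw [← hR'c, hd] at hPle
        have : Nat.card ↥((R : Subgroup K).map K.subtype) * 2 ≤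
            Nat.card ↥((R : Subgroup K).map K.subtype) * (d + 1 + 1) := Nat.mul_le_mul_left _ (by omega)
        omega
  -- a conjugate of `t` in `P` centralising `w`
  have ht1 : (b : H)⁻¹ * t * b ∈ K := mem_centralizer_singleton_iff.2 (by
    rw [hw, show (b : H)⁻¹ * t * b * ((b : H)⁻¹ * u * b) = (b : H)⁻¹ * (t * u) * b by group, C.tu]
    group)
  have ht1p : IsPGroup 2 (zpowers (⟨_, ht1⟩ : K)) := by
    refine CfsgLib.Involutions.isPGroup_two_zpowers (CfsgLib.Involutions.orderOf_eq_two_iff_mul.2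
      ⟨fun h => C.t_ne_one ?_, Subtype.ext ?_⟩)
    · have h' : (b : H)⁻¹ * t * b = 1 := congrArg Subtype.val h
      calc t = (b : H) * ((b : H)⁻¹ * t * b) * (b : H)⁻¹ := by group
        _ = 1 := by rw [h']; group
    · show (b : H)⁻¹ * t * b * ((b : H)⁻¹ * t * b) = 1
      rw [show (b : H)⁻¹ * t * b * ((b : H)⁻¹ * t * b) = (b : H)⁻¹ * (t * t) * b by group, C.t2]
      group
  obtain ⟨r, hr⟩ := CfsgLib.Involutions.exists_conj_le_sylow ht1p R
  obtain ⟨g, hg⟩ : ∃ g, g = (r : H) * (b : H)⁻¹ := ⟨_, rfl⟩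
  obtain ⟨t₂, ht₂⟩ : ∃ t₂, t₂ = g * t * g⁻¹ := ⟨_, rfl⟩
  have ht₂R := hr _ (mem_zpowers _)
  have ht₂e : t₂ = (r : H) * ((b : H)⁻¹ * t * b) * (r : H)⁻¹ := by rw [ht₂, hg]; group
  have ht₂P : t₂ ∈ (P : Subgroup H) := by
    rw [ht₂e]; exact hRP ⟨_, ht₂R, rfl⟩
  have ht₂w : t₂ * w * t₂⁻¹ = w := by
    have hmem : t₂ ∈ K := by rw [ht₂e]; exact mul_mem (mul_mem r.2 ht1) (inv_mem r.2)
    rw [mem_centralizer_singleton_iff.1 hmem, mul_inv_cancel_right]
  have ht₂A : t₂ ∉ A := fun h => C.tA (by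
    have := C.normal.conj_mem _ h g⁻¹
    rwa [ht₂, show g⁻¹ * (g * t * g⁻¹) * g⁻¹⁻¹ = t by group] at this)
  have hs₂ : Mem A P (t₂ * t) :=
    ⟨(C.mem_or t₂).resolve_left ht₂A, mul_mem ht₂P C.tP⟩
  have ht₂t : t₂ = t₂ * t * t := by rw [mul_assoc, C.t2, mul_one]
  obtain ⟨i, hi | hi⟩ := D.gen _ hs₂
  · refine hw2 ?_
    rw [ht₂t, hi, show m ^ i * t * w * (m ^ i * t)⁻¹ = m ^ i * (t * w * t⁻¹) * (m ^ i)⁻¹ by group, htw,
      ← conj_inv, hmw, inv_eq_iff_mul_eq_one] at ht₂w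
    exact ht₂w
  have ht₂2 : m ^ (c * i + (j - -1 * j) + -1 * i) = 1 := by
    have h : t₂ * t₂ = 1 := by
      rw [ht₂, show g * t * g⁻¹ * (g * t * g⁻¹) = g * (t * t) * g⁻¹ by group, C.t2]; group
    rw [ht₂t, hi, show y * m ^ i * t * (y * m ^ i * t) = y * m ^ i * (t * (y * m ^ i) * t) by group,
      C.tconj_mul, hty, ha, show y * m ^ i * (y * m ^ (j - -1 * j) * m ^ (-1 * i)) =
        y * (m ^ i * y) * m ^ (j - -1 * j) * m ^ (-1 * i) by group, pow_y D, ← mul_assoc y y, D.ysq,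
      one_mul, ← zpow_add, ← zpow_add] at h
    exact h
  have hcy : t₂ * y = y * t₂ := by
    refine mul_inv_eq_iff_eq_mul.1 ?_
    rw [ht₂t, hi, show y * m ^ i * t * y * (y * m ^ i * t)⁻¹ =
      y * m ^ i * (t * y * t⁻¹) * (m ^ i)⁻¹ * y⁻¹ by group, ← C.conj_t, hty,
      show y * m ^ i * (y * m ^ (j - -1 * j)) * (m ^ i)⁻¹ * y⁻¹ =
        y * (m ^ i * y) * m ^ (j - -1 * j) * (m ^ i)⁻¹ * y⁻¹ by group, pow_y D, ← mul_assoc y y, D.ysq,
      one_mul, ← zpow_neg, ← zpow_add, ← zpow_add, show c * i + (j - -1 * j) + -i =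
        c * i + (j - -1 * j) + -1 * i by ring, ht₂2, one_mul, inv_eq_of_mul_eq_one_right D.ysq]
  have hcm : t₂ * (m * m) = m * m * t₂ := by
    refine mul_inv_eq_iff_eq_mul.1 ?_
    rw [hmm, ht₂t, hi, show y * m ^ i * t * m ^ (2 : ℤ) * (y * m ^ i * t)⁻¹ =
      y * (m ^ i * (t * m ^ (2 : ℤ) * t⁻¹) * (m ^ i)⁻¹) * y⁻¹ by group, ← C.conj_t, ha, ← zpow_neg,
      ← zpow_add, ← zpow_add, show i + -1 * 2 + -i = -2 by ring,
      CfsgLib.GammaRankOne.conj_zp D.conj, zpm D, hcv]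
    exact ⟨1, by ring⟩
  have hWc : ∀ q ∈ W, t₂ * q = q * t₂ := by
    intro q hq
    obtain ⟨f, h | h⟩ := mem_dih.1 hq <;> rw [h]
    · exact ((show Commute t₂ (m * m) from hcm).zpow_right f).eq
    · exact ((show Commute t₂ y from hcy).mul_right ((show Commute t₂ (m * m) from hcm).zpow_right f)).eq
  -- pull back
  have hbound := C.cent (W.map (MulAut.conj g⁻¹).toMonoidHom) ?_ ?_ ?_
  · rw [Subgroup.card_map_of_injective (MulAut.conj g⁻¹).injective] at hbound
    have hle : zpowers (m * m) ≤ W := zpowers_le.2 (mem_dih.2 ⟨1, Or.inl (zpow_one _).symm⟩)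
    have hlt : Nat.card (zpowers (m * m)) < Nat.card W := by
      refine lt_of_le_of_ne (Subgroup.card_le_of_le hle) fun h => ?_
      have := eq_of_le_of_card_ge hle h.ge
      have hy : y ∈ zpowers (m * m) := this ▸ mem_dih.2 ⟨0, Or.inr (by simp)⟩
      exact D.ynot (zpowers_le.2 (mul_mem (mem_zpowers m) (mem_zpowers m)) hy)
    rw [Nat.card_zpowers, ← pow_two, orderOf_pow' _ (by norm_num), D.ord] at hlt
    have e : (2 ^ (l + 1 + 2)).gcd 2 = 2 :=
      Nat.gcd_eq_right (dvd_pow_self 2 (by omega))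
    rw [e] at hlt
    have e4 : 4 ≤ 2 ^ (l + 1 + 2) / 2 := by
      rw [show l + 1 + 2 = (l + 2) + 1 by ring, pow_succ, Nat.mul_div_cancel _ (by norm_num)]
      calc (4 : ℕ) = 2 ^ 2 := rfl
        _ ≤ 2 ^ (l + 2) := Nat.pow_le_pow_right (by norm_num) (by omega)
    omega
  · rintro _ ⟨q, hq, rfl⟩
    exact C.normal.conj_mem q (hWA hq).1 g⁻¹
  · exact (P.2.to_le (hWA.trans inf_le_right)).map _
  · rintro _ ⟨q, hq, rfl⟩
    show t * (g⁻¹ * q * g⁻¹⁻¹) = g⁻¹ * q * g⁻¹⁻¹ * t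
    rw [show t = g⁻¹ * t₂ * g by rw [ht₂]; group,
      show g⁻¹ * t₂ * g * (g⁻¹ * q * g⁻¹⁻¹) = g⁻¹ * (t₂ * q) * g by group, hWc q hq]
    group

theorem cyclic_false (hno : ∀ y', ¬ Four A P u y') : False := by
  obtain ⟨j, h | h⟩ := D.gen u C.uS
  · exact C.u_mem_false D h hno
  · exact C.u_not_mem_false D h

end Cfg

end CfsgLib.FourCent
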