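import Cfsg.Agent.Lib.FourCent.Mover
import Mathlib.GroupTheory.Nilpotent

/-!
# An involution of `A ∩ P` outside `V`: the dihedral structure
-/

set_option autoImplicit false
set_option linter.style.haveILetI false

namespace CfsgLib.FourCent

open Subgroup

variable {H : Type*} [Group H]

theorem conj_zpow_inv {g e : H} (h : e * g * e⁻¹ = g⁻¹) (i : ℤ) : g ^ i * e = e * g ^ (-i) := by
  have : e * g ^ (-i) * e⁻¹ = g ^ i := by rw [← conj_zpow, h, inv_zpow, zpow_neg, inv_inv]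
  rw [← this, inv_mul_cancel_right]

/-- `⟨g⟩ ∪ e⟨g⟩` for an element `e` inverting `g` with square in `⟨g⟩`. -/
def dih (g e : H) (he : e * g * e⁻¹ = g⁻¹) (he2 : e * e ∈ zpowers g) : Subgroup H where
  carrier := {p | ∃ j : ℤ, p = g ^ j ∨ p = e * g ^ j}
  one_mem' := ⟨0, Or.inl (zpow_zero g).symm⟩
  mul_mem' := by
    obtain ⟨d, hd⟩ := mem_zpowers_iff.1 he2
    rintro a b ⟨i, rfl | rfl⟩ ⟨j, rfl | rfl⟩
    · exact ⟨i + j, Or.inl (zpow_add g i j).symm⟩
    · exact ⟨-i + j, Or.inr (by rw [← mul_assoc, conj_zpow_inv he, mul_assoc, zpow_add])⟩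
    · exact ⟨i + j, Or.inr (by rw [mul_assoc, zpow_add])⟩
    · refine ⟨d + (-i + j), Or.inl ?_⟩
      rw [mul_assoc e, ← mul_assoc (g ^ i), conj_zpow_inv he, mul_assoc e, ← mul_assoc e e, ← hd,
        zpow_add, zpow_add]
  inv_mem' := by
    obtain ⟨d, hd⟩ := mem_zpowers_iff.1 he2
    rintro a ⟨i, rfl | rfl⟩
    · exact ⟨-i, Or.inl (zpow_neg g i).symm⟩
    · refine ⟨-d + i, Or.inr ?_⟩
      have e1 : e⁻¹ = e * g ^ (-d) := by
        rw [zpow_neg, hd]; group
      rw [mul_inv_rev, e1, ← zpow_neg, ← mul_assoc, conj_zpow_inv he, neg_neg, mul_assoc, ← zpow_add,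
        add_comm]

theorem mem_dih {g e : H} {he : e * g * e⁻¹ = g⁻¹} {he2 : e * e ∈ zpowers g} {p : H} :
    p ∈ dih g e he he2 ↔ ∃ j : ℤ, p = g ^ j ∨ p = e * g ^ j := Iff.rfl

variable [Finite H] {A : Subgroup H} {P : Sylow 2 H} {t u : H}

/-- An involution `x` outside `V` and `c = t x`. -/
structure Dat (A : Subgroup H) (P : Sylow 2 H) (t u y x : H) (M : ℕ) : Prop where
  mem : Cfg.Mem A P x
  sq : x * x = 1
  even : Even M
  pos : 0 < M
  ord : orderOf (t * x) = 4 * M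
  top : (t * x) ^ (2 * M) = u * u
  gam : t * x * (t * x) * y = y * (t * x * (t * x))
  gen : ∀ s, Cfg.Mem A P s → ∃ (j : ℤ) (v : H), (v = 1 ∨ v = u * u ∨ v = y ∨ v = u * u * y) ∧
    (s = (t * x * (t * x)) ^ j * v ∨ s = x * (t * x * (t * x)) ^ j * v)

namespace Cfg

variable (C : Cfg A P t u) {y : H} (F : Four A P u y)
include C F

theorem exists_dat {x : H} (hx : Mem A P x) (hx2 : x * x = 1) (hxV : x ∉ C.V F)
    (huy : u * y = y * u) : ∃ M, Dat A P t u y x M := by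
  classical
  haveI : Fact (Nat.Prime 2) := ⟨Nat.prime_two⟩
  haveI := C.normal
  obtain ⟨c, hc⟩ : ∃ c, c = t * x := ⟨_, rfl⟩
  have hcP : c ∈ (P : Subgroup H) := hc ▸ mul_mem C.tP hx.2
  have hcA : c ∉ A := fun h => C.tA ((Subgroup.mul_mem_cancel_right _ hx.1).1 (hc ▸ h))
  have hxi : x⁻¹ = x := inv_eq_of_mul_eq_one_right hx2
  have hxc : x * c * x⁻¹ = c⁻¹ := by
    rw [hc, mul_inv_rev, hxi, C.t_inv, ← mul_assoc, mul_assoc (x * t), hx2, mul_one]
  have htc : t * c * t⁻¹ = c⁻¹ := by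
    rw [hc, mul_inv_rev, hxi, C.t_inv, ← mul_assoc, C.t2, one_mul]
  have hxuV : ¬ ∃ v ∈ C.V F, x = u * v := by
    rintro ⟨v, hv, e⟩
    exact C.z_ne_one (by rw [← C.uV_sq F huy hv, ← e, hx2])
  have hc2 : c * c ∉ C.V F := by
    intro h
    rcases C.fix_mod F hx (by
      have e : x⁻¹ * (t * x * t) = (c * c)⁻¹ := by rw [hc, mul_inv_rev, mul_inv_rev, hxi, C.t_inv]; group
      rw [e]; exact inv_mem h) with h' | h'
    · exact hxV h'
    · exact hxuV h'
  obtain ⟨K, hK⟩ := (IsPGroup.iff_orderOf.1 P.2) ⟨c, hcP⟩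
  rw [Subgroup.orderOf_mk] at hK
  have hex : ∃ m, c ^ 2 ^ (m + 1) ∈ C.V F := by
    refine ⟨K, ?_⟩
    rw [pow_succ, pow_mul, ← hK, pow_orderOf_eq_one, one_pow]; exact one_mem _
  obtain ⟨m, hm, hmin⟩ : ∃ m, c ^ 2 ^ (m + 1) ∈ C.V F ∧ ∀ k < m, c ^ 2 ^ (k + 1) ∉ C.V F :=
    ⟨Nat.find hex, Nat.find_spec hex, fun k hk => Nat.find_min hex hk⟩
  have hm0 : m ≠ 0 := fun e => hc2 (by rw [← pow_two]; simpa [e] using hm)
  obtain ⟨m, rfl⟩ : ∃ m', m = m' + 1 := ⟨m - 1, by omega⟩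
  obtain ⟨d, hd⟩ : ∃ d, d = c ^ 2 ^ (m + 1) := ⟨_, rfl⟩
  have hdV : d ∉ C.V F := hd ▸ hmin m (Nat.lt_succ_self m)
  have hcc : c * c ∈ A := Subgroup.mul_self_mem_of_index_two C.idx c
  have hdA : d ∈ A := by
    rw [hd, pow_succ', pow_mul, pow_two]; exact pow_mem hcc _
  have hdS : Mem A P d := ⟨hdA, hd ▸ pow_mem hcP _⟩
  have hdd : d * d = c ^ 2 ^ (m + 1 + 1) := by rw [hd, ← pow_add, pow_succ _ (m + 1), mul_two]
  have htd : t * d * t⁻¹ = d⁻¹ := by rw [hd, ← conj_pow, htc, inv_pow]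
  obtain ⟨v, hv, hdv⟩ : ∃ v ∈ C.V F, d = u * v := by
    refine (C.fix_mod F hdS ?_).resolve_left hdV
    rw [C.conj_t, htd, ← mul_inv_rev, hdd]
    exact inv_mem hm
  have hdsq : d * d = u * u := by rw [hdv]; exact C.uV_sq F huy hv
  have h2M : c ^ 2 ^ (m + 1 + 1) = u * u := hdd.symm.trans hdsq
  have hord : orderOf c = 2 ^ (m + 1 + 1 + 1) := by
    refine orderOf_eq_prime_pow (fun e => C.z_ne_one (h2M.symm.trans e)) ?_
    rw [pow_succ, pow_mul, h2M, pow_two, C.z_sq]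
  have hgy : c * c * y = y * (c * c) := by
    have hcy : c * (c * y * c⁻¹) * c⁻¹ = y := by
      rcases F.conj c hcP with e | e
      · rw [e, e]
      · rw [e, show c * (u * u * y) * c⁻¹ = c * (u * u) * c⁻¹ * (c * y * c⁻¹) by group, e,
          C.z_comm hcP, mul_inv_cancel_right, ← mul_assoc, C.z_sq, one_mul]
    calc c * c * y = c * (c * y * c⁻¹) * c⁻¹ * (c * c) := by group
      _ = y * (c * c) := by rw [hcy]
  refine ⟨2 ^ (m + 1), ⟨hx, hx2, ⟨2 ^ m, by rw [pow_succ, mul_two]⟩, Nat.two_pow_pos _, ?_, ?_, ?_, ?_⟩⟩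
  · rw [← hc, hord]; ring
  · rw [← hc, ← pow_succ', h2M]
  · rw [← hc]; exact hgy
  rw [← hc]
  -- the subgroup `V ⟨t, x⟩`
  have hVc : ∀ (i : ℤ), ∀ w ∈ C.V F, c ^ i * w * (c ^ i)⁻¹ ∈ C.V F := fun i w hw =>
    C.V_conj F (zpow_mem hcP i) hw
  let D : Subgroup H :=
    { carrier := {p | ∃ j : ℤ, ∃ w ∈ C.V F, p = c ^ j * w ∨ p = x * c ^ j * w}
      one_mem' := ⟨0, 1, one_mem _, Or.inl (by simp)⟩
      mul_mem' := by
        rintro a b ⟨i, w, hw, ha⟩ ⟨j, w', hw', hb⟩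
        have h1 : w * c ^ j = c ^ j * ((c ^ j)⁻¹ * w * c ^ j) := by group
        have h1V : (c ^ j)⁻¹ * w * c ^ j ∈ C.V F := by
          have := hVc (-j) w hw; rwa [zpow_neg, inv_inv] at this
        have h2 : w * x = x * (x⁻¹ * w * x) := by group
        have h2V : x⁻¹ * w * x ∈ C.V F := by
          have := C.V_conj F (inv_mem hx.2) hw; rwa [inv_inv] at this
        have h3V : (c ^ j)⁻¹ * (x⁻¹ * w * x) * c ^ j ∈ C.V F := by
          have := hVc (-j) _ h2V; rwa [zpow_neg, inv_inv] at this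
        rcases ha with rfl | rfl <;> rcases hb with rfl | rfl
        · refine ⟨i + j, _, mul_mem h1V hw', Or.inl ?_⟩
          rw [show c ^ i * w * (c ^ j * w') = c ^ i * (w * c ^ j) * w' by group, h1, zpow_add]
          group
        · refine ⟨-i + j, _, mul_mem h3V hw', Or.inr ?_⟩
          rw [show c ^ i * w * (x * c ^ j * w') = c ^ i * (w * x) * c ^ j * w' by group, h2,
            show c ^ i * (x * (x⁻¹ * w * x)) * c ^ j * w' =
              c ^ i * x * (x⁻¹ * w * x) * c ^ j * w' by group, conj_zpow_inv hxc, zpow_add]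
          group
        · refine ⟨i + j, _, mul_mem h1V hw', Or.inr ?_⟩
          rw [show x * c ^ i * w * (c ^ j * w') = x * c ^ i * (w * c ^ j) * w' by group, h1, zpow_add]
          group
        · refine ⟨-i + j, _, mul_mem h3V hw', Or.inl ?_⟩
          rw [show x * c ^ i * w * (x * c ^ j * w') = x * c ^ i * (w * x) * c ^ j * w' by group, h2,
            show x * c ^ i * (x * (x⁻¹ * w * x)) * c ^ j * w' =
              x * (c ^ i * x) * (x⁻¹ * w * x) * c ^ j * w' by group, conj_zpow_inv hxc, ← mul_assoc x x,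
            hx2, one_mul, zpow_add]
          group
      inv_mem' := by
        rintro a ⟨i, w, hw, rfl | rfl⟩
        · refine ⟨-i, c ^ i * w⁻¹ * (c ^ i)⁻¹, hVc i _ (inv_mem hw), Or.inl ?_⟩
          group
        · refine ⟨i, (x * c ^ i) * w⁻¹ * (x * c ^ i)⁻¹,
            C.V_conj F (mul_mem hx.2 (zpow_mem hcP i)) (inv_mem hw), Or.inr ?_⟩
          have e : (x * c ^ i)⁻¹ = x * c ^ i := by
            rw [mul_inv_rev, hxi, ← zpow_neg, conj_zpow_inv hxc, neg_neg]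
          rw [mul_inv_rev (x * c ^ i), e]
          have e2 : x * c ^ i * (x * c ^ i) = 1 := by
            conv_lhs => arg 2; rw [← e]
            rw [mul_inv_cancel]
          rw [← mul_assoc (x * c ^ i) (x * c ^ i * w⁻¹), ← mul_assoc (x * c ^ i) (x * c ^ i), e2, one_mul] }
  have hVD : ∀ w ∈ C.V F, w ∈ D := fun w hw => ⟨0, w, hw, Or.inl (by simp)⟩
  have hcD : c ∈ D := ⟨1, 1, one_mem _, Or.inl (by simp)⟩
  have hxD : x ∈ D := ⟨0, 1, one_mem _, Or.inr (by simp)⟩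
  have htD : t ∈ D := by
    have : t = c * x := by rw [hc, mul_assoc, hx2, mul_one]
    rw [this]; exact mul_mem hcD hxD
  have huD : u ∈ D := by
    have : u = d * v⁻¹ := by rw [hdv, mul_inv_cancel_right]
    rw [this]; exact mul_mem (hd ▸ pow_mem hcD _) (inv_mem (hVD v hv))
  have hDP : D ≤ (P : Subgroup H) := by
    rintro p ⟨j, w, hw, rfl | rfl⟩
    · exact mul_mem (zpow_mem hcP _) (C.V_le F hw).2
    · exact mul_mem (mul_mem hx.2 (zpow_mem hcP _)) (C.V_le F hw).2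
  have hparity : ∀ j : ℤ, c ^ j ∈ A → Even j := by
    intro j hj
    by_contra ho
    obtain ⟨k, rfl⟩ := Int.not_even_iff_odd.1 ho
    rw [zpow_add, zpow_mul, zpow_one, zpow_two] at hj
    exact hcA ((Subgroup.mul_mem_cancel_left _ (zpow_mem hcc k)).1 hj)
  have htop : (P : Subgroup H) ≤ D := by
    by_contra hne
    haveI : Group.IsNilpotent (P : Subgroup H) := P.2.isNilpotent
    have hlt : D.subgroupOf (P : Subgroup H) < ⊤ := lt_top_iff_ne_top.2 fun e =>
      hne (Subgroup.subgroupOf_eq_top.1 e)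
    obtain ⟨g, hgN, hgD⟩ := SetLike.exists_of_lt
      (Group.normalizerCondition_of_isNilpotent _ hlt)
    obtain ⟨g, hgP⟩ := g
    have hgn : ∀ a ∈ D, g * a * g⁻¹ ∈ D := fun a ha =>
      (Subgroup.mem_normalizer_iff.1 hgN ⟨a, hDP ha⟩).1 ha
    have hgt : g * t * g⁻¹ ∈ D := hgn t htD
    have htA : g * t * g⁻¹ ∉ A := fun h => C.tA (by
      have := C.normal.conj_mem _ h g⁻¹
      rwa [show g⁻¹ * (g * t * g⁻¹) * g⁻¹⁻¹ = t by group] at this)
    have hinv : g * t * g⁻¹ * (g * t * g⁻¹) = 1 := by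
      rw [show g * t * g⁻¹ * (g * t * g⁻¹) = g * (t * t) * g⁻¹ by group, C.t2]; group
    obtain ⟨j, w, hw, hj | hj⟩ := hgt
    · have hje : ¬ Even j := fun ⟨k, hk⟩ => htA (by
        rw [hj, hk, zpow_add, ← (Commute.refl c).mul_zpow]
        exact mul_mem (zpow_mem hcc k) (C.V_le F hw).1)
      refine hc2 ?_
      rw [hj] at hinv
      have h2j : (c * c) ^ j ∈ C.V F := by
        have e : c ^ j * c ^ j = w⁻¹ * ((c ^ j)⁻¹ * w * c ^ j)⁻¹ := by
          calc c ^ j * c ^ j = (c ^ j * w * (c ^ j * w)) * w⁻¹ * ((c ^ j)⁻¹ * w * c ^ j)⁻¹ *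
                1 := by group
            _ = _ := by rw [hinv, one_mul, mul_one]
        rw [(Commute.refl c).mul_zpow, e]
        refine mul_mem (inv_mem hw) (inv_mem ?_)
        have := hVc (-j) w hw
        rwa [zpow_neg, inv_inv] at this
      obtain ⟨k, hk⟩ := Int.not_even_iff_odd.1 hje
      have hco : IsCoprime j ((2 : ℤ) ^ (m + 1 + 1)) := by
        refine IsCoprime.pow_right ?_
        exact ⟨1, -k, by rw [hk]; ring⟩
      obtain ⟨α, β, hαβ⟩ := hco
      have h1 : (c * c) ^ ((2 : ℤ) ^ (m + 1 + 1)) ∈ C.V F := by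
        have : (c * c) ^ ((2 : ℤ) ^ (m + 1 + 1)) = 1 := by
          rw [show ((2 : ℤ) ^ (m + 1 + 1)) = ((2 ^ (m + 1 + 1) : ℕ) : ℤ) by push_cast; ring,
            zpow_natCast, ← pow_two, ← pow_mul, ← pow_succ', ← hord, pow_orderOf_eq_one]
        rw [this]; exact one_mem _
      have h3 : c * c = ((c * c) ^ j) ^ α * ((c * c) ^ ((2 : ℤ) ^ (m + 1 + 1))) ^ β := by
        rw [← zpow_mul, ← zpow_mul, ← zpow_add, mul_comm j, mul_comm _ β, hαβ, zpow_one]
      rw [h3]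
      exact mul_mem (zpow_mem h2j α) (zpow_mem h1 β)
    · have hje : ¬ Even j := fun ⟨k, hk⟩ => htA (by
        rw [hj, hk, zpow_add, ← (Commute.refl c).mul_zpow]
        exact mul_mem (mul_mem hx.1 (zpow_mem hcc k)) (C.V_le F hw).1)
      obtain ⟨k, rfl⟩ := Int.not_even_iff_odd.1 hje
      -- `c^(k+1) g` fixes `t` modulo `V`
      obtain ⟨a, ha⟩ : ∃ a, a = c ^ (k + 1) * g := ⟨_, rfl⟩
      have hat : ∃ v ∈ C.V F, a * t * a⁻¹ = t * v := by
        refine ⟨c ^ (k + 1) * w * (c ^ (k + 1))⁻¹, hVc _ w hw, ?_⟩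
        rw [ha, show c ^ (k + 1) * g * t * (c ^ (k + 1) * g)⁻¹ =
          c ^ (k + 1) * (g * t * g⁻¹) * (c ^ (k + 1))⁻¹ by group, hj]
        have ht : t = c * x := by rw [hc, mul_assoc, hx2, mul_one]
        rw [show c ^ (k + 1) * (x * c ^ (2 * k + 1) * w) * (c ^ (k + 1))⁻¹ =
          c ^ (k + 1) * x * c ^ (2 * k + 1) * w * (c ^ (k + 1))⁻¹ by group, conj_zpow_inv hxc,
          ht, show c * x = c ^ (1 : ℤ) * x by rw [zpow_one], conj_zpow_inv hxc]
        group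
      have haP : a ∈ (P : Subgroup H) := ha ▸ mul_mem (zpow_mem hcP _) hgP
      have haD : a ∉ D := fun h => hgD (by
        have := mul_mem (inv_mem (zpow_mem hcD (k + 1))) h
        rwa [ha, inv_mul_cancel_left] at this)
      obtain ⟨v', hv', hav⟩ := hat
      have hne : ∀ b, Mem A P b → b * t * b⁻¹ = t * v' → b ∈ D := by
        intro b hb hbv
        have e : b⁻¹ * (t * b * t) = b⁻¹ * v' * b := by
          have h1 : b * t = t * v' * b := by rw [← hbv]; group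
          calc b⁻¹ * (t * b * t) = b⁻¹ * (t * (b * t)) := by group
            _ = b⁻¹ * ((t * t) * v' * b) := by rw [h1]; group
            _ = _ := by rw [C.t2, one_mul, ← mul_assoc]
        have hV : b⁻¹ * (t * b * t) ∈ C.V F := by
          rw [e]
          have := C.V_conj F (inv_mem hb.2) hv'
          rwa [inv_inv] at this
        rcases C.fix_mod F hb hV with h | ⟨w', hw', rfl⟩
        · exact hVD _ h
        · exact mul_mem huD (hVD _ hw')
      rcases C.mem_or a with h | h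
      · exact haD (hne a ⟨h, haP⟩ hav)
      · refine haD ?_
        have := mul_mem (hne (a * t) ⟨h, mul_mem haP C.tP⟩ (by
          rw [show a * t * t * (a * t)⁻¹ = a * t * t * t⁻¹ * a⁻¹ by group, ← hav]; group)) htD
        rwa [mul_assoc, C.t2, mul_one] at this
  intro s hs
  obtain ⟨j, w, hw, hj | hj⟩ := htop hs.2
  · obtain ⟨k, rfl⟩ := hparity j (by
      have := A.mul_mem hs.1 (A.inv_mem (C.V_le F hw).1)
      rwa [hj, mul_inv_cancel_right] at this)
    exact ⟨k, w, C.V_cases F hw, Or.inl (by rw [hj, zpow_add, ← (Commute.refl c).mul_zpow])⟩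
  · obtain ⟨k, rfl⟩ := hparity j (by
      have := A.mul_mem (A.inv_mem hx.1) (A.mul_mem hs.1 (A.inv_mem (C.V_le F hw).1))
      rwa [hj, mul_inv_cancel_right, inv_mul_cancel_left] at this)
    exact ⟨k, w, C.V_cases F hw, Or.inr (by rw [hj, zpow_add, ← (Commute.refl c).mul_zpow])⟩

end Cfg

end CfsgLib.FourCent
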