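import Cfsg.Agent.Lib.FourCent.Mover

/-!
# The case where `u` moves the four-group
-/

set_option autoImplicit false
set_option linter.style.haveILetI false

namespace CfsgLib.FourCent

open Subgroup

variable {H : Type*} [Group H] [Finite H] {A : Subgroup H} {P : Sylow 2 H} {t u : H}

namespace Cfg

variable (C : Cfg A P t u) {y : H} (F : Four A P u y)
include C F

theorem conj_V_eq {p v : H} (hp : p ∈ (P : Subgroup H)) (hv : v ∈ C.V F) :
    p * v * p⁻¹ = v ∨ p * v * p⁻¹ = u * u * v := by
  have hz : p * (u * u) * p⁻¹ = u * u := by rw [C.z_comm hp, mul_inv_cancel_right]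
  rcases C.V_cases F hv with rfl | rfl | rfl | rfl
  · simp
  · exact Or.inl hz
  · exact F.conj p hp
  · rw [show p * (u * u * y) * p⁻¹ = p * (u * u) * p⁻¹ * (p * y * p⁻¹) by group, hz]
    rcases F.conj p hp with e | e <;> rw [e]
    · exact Or.inl rfl
    · exact Or.inr rfl

theorem uy_ne (huy : u * y ≠ y * u) : u * y = u * u * (y * u) := by
  rcases F.conj u C.uP with e | e
  · exact absurd (mul_inv_eq_iff_eq_mul.1 e) huy
  · rw [mul_inv_eq_iff_eq_mul.1 e, mul_assoc]

theorem mem_cases_of_eight (huy : u * y ≠ y * u) {s : H} (hs : Mem A P s) :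
    s ∈ C.V F ∨ ∃ v ∈ C.V F, s = v * u := by
  have hS0 : S0 A P y = C.V F := by
    refine eq_of_fixed (P.2.to_le (show S0 A P y ≤ (P : Subgroup H) from fun a ha => ha.1.2))
      (C.V_le_S0 F) (fun a ha w hw => C.V_conj F ha.1.2 hw) C.t2 (fun a ha => ?_)
      (fun w hw => C.V_tconj F hw) fun a ha hf => ?_
    · rw [C.conj_t]; exact C.S0_conj F C.tP ha
    · rcases C.fix_mod F ha.1 hf with h | ⟨v, hv, rfl⟩
      · exact h
      · refine absurd ?_ huy
        have h := mul_mem ha (inv_mem (C.V_le_S0 F hv))
        rw [mul_inv_cancel_right] at h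
        exact ((C.mem_S0 F).1 h).2
  by_cases hsy : s * y = y * s
  · exact Or.inl (hS0.le ((C.mem_S0 F).2 ⟨hs, hsy⟩))
  refine Or.inr ⟨s * u⁻¹, hS0.le ((C.mem_S0 F).2 ⟨mul_mem hs (inv_mem C.uS), ?_⟩), by group⟩
  have e1 : s * y * s⁻¹ = u * u * y := (F.conj s hs.2).resolve_left fun e =>
    hsy (mul_inv_eq_iff_eq_mul.1 e)
  have e2 : u⁻¹ * y * u = u * u * y := by
    have := (F.conj u⁻¹ (inv_mem C.uP)).resolve_left fun e => huy (by
      rw [inv_inv, mul_assoc, inv_mul_eq_iff_eq_mul] at e; exact e.symm)
    rwa [inv_inv] at this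
  have hz : s * (u * u) = u * u * s := C.z_comm hs.2
  calc s * u⁻¹ * y = s * (u⁻¹ * y * u) * u⁻¹ := by group
    _ = u * u * (s * y * s⁻¹) * (s * u⁻¹) := by rw [e2, ← mul_assoc, hz]; group
    _ = y * (s * u⁻¹) := by rw [e1, ← mul_assoc (u * u) (u * u), C.z_sq, one_mul]

theorem eight_false (huy : u * y ≠ y * u) : False := by
  have huz := C.uy_ne F huy
  have hz := C.z_comm (p := y) F.mem.2
  -- the cyclic subgroup of index two
  obtain ⟨a, ha, haM, haS⟩ := C.transfer_into (zpowers u) F.mem (fun h => by
      rcases C.u_cases h with e | e | e | e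
      · exact F.ne_one e
      · exact huy (by rw [e])
      · exact F.ne_z e
      · exact huy (by rw [e]; group))
    (fun s hs => by
      have hyu : y * u * y = u * u * u := by
        calc y * u * y = y * (u * y) := mul_assoc _ _ _
          _ = y * (u * u) * y * u := by rw [huz]; group
          _ = u * u * (y * y) * u := by rw [hz]; group
          _ = u * u * u := by rw [F.sq, mul_one]
      rcases C.mem_cases_of_eight F huy hs with h | ⟨v, hv, rfl⟩
      · rcases C.V_cases F h with rfl | rfl | rfl | rfl
        · exact Or.inl (one_mem _)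
        · exact Or.inl (mul_mem (mem_zpowers u) (mem_zpowers u))
        · exact Or.inr (by rw [F.sq]; exact one_mem _)
        · exact Or.inr (by rw [mul_assoc, F.sq, mul_one]; exact mul_mem (mem_zpowers u) (mem_zpowers u))
      · rcases C.V_cases F hv with rfl | rfl | rfl | rfl
        · exact Or.inl (by rw [one_mul]; exact mem_zpowers u)
        · exact Or.inl (mul_mem (mul_mem (mem_zpowers u) (mem_zpowers u)) (mem_zpowers u))
        · exact Or.inr (by rw [hyu]; exact mul_mem (mul_mem (mem_zpowers u) (mem_zpowers u)) (mem_zpowers u))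
        · refine Or.inr ?_
          rw [mul_assoc (u * u) y u, mul_assoc (u * u) (y * u) y, hyu]
          exact mul_mem (mul_mem (mem_zpowers u) (mem_zpowers u))
            (mul_mem (mul_mem (mem_zpowers u) (mem_zpowers u)) (mem_zpowers u)))
    (x := u * y) (mul_mem C.uS F.mem)
    (by
      calc u * y * (u * y) = u * (y * u) * y := by group
        _ = u * u * u * (u * y * y) := by
          rw [show y * u = u * u * (u * y) by rw [huz, ← mul_assoc (u * u) (u * u), C.z_sq, one_mul]]
          group
        _ = 1 := by rw [mul_assoc u y, F.sq, mul_one, mul_assoc (u * u), C.z_sq])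
  have hx1 : u * y ≠ 1 := fun e => huy (by
    rw [eq_inv_of_mul_eq_one_right e, mul_inv_cancel, inv_mul_cancel])
  have hcz : a * (u * y) * a⁻¹ = u * u := by
    have hsq : a * (u * y) * a⁻¹ * (a * (u * y) * a⁻¹) = 1 := by
      rw [show a * (u * y) * a⁻¹ * (a * (u * y) * a⁻¹) = a * (u * y * (u * y)) * a⁻¹ by group,
        show u * y * (u * y) = 1 by
          calc u * y * (u * y) = u * (y * u) * y := by group
            _ = u * u * u * (u * y * y) := by
              rw [show y * u = u * u * (u * y) by
                rw [huz, ← mul_assoc (u * u) (u * u), C.z_sq, one_mul]]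
              group
            _ = 1 := by rw [mul_assoc u y, F.sq, mul_one, mul_assoc (u * u), C.z_sq]]
      group
    rcases C.u_cases haM with e | e | e | e
    · exact absurd (conj_eq_one_iff.1 e) hx1
    · exact absurd (e ▸ hsq) C.z_ne_one
    · exact e
    · refine absurd ?_ C.z_ne_one
      calc u * u = u * u * (u * u * (u * u)) := by rw [C.z_sq, mul_one]
        _ = a * (u * y) * a⁻¹ * (a * (u * y) * a⁻¹) := by rw [e]; group
        _ = 1 := hsq
  refine C.extremal ?_ (x := u * y) (q := t * u) ?_ ?_ ?_ hcz
  · intro p hp _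
    have key : ∀ v ∈ C.V F, ∀ g ∈ (P : Subgroup H), v * (g * v * g⁻¹) = 1 ∨ v * (g * v * g⁻¹) = u * u := by
      intro v hv g hg
      rcases C.conj_V_eq F hg hv with e | e <;> rw [e]
      · exact Or.inl (C.V_sq F hv)
      · refine Or.inr ?_
        rw [← mul_assoc, C.z_comm (C.V_le F hv).2, mul_assoc, C.V_sq F hv, mul_one]
    have flip : ∀ w : H, w = 1 ∨ w = u * u → w * (u * u) = 1 ∨ w * (u * u) = u * u := by
      rintro w (rfl | rfl)
      · exact Or.inr (one_mul _)
      · exact Or.inl C.z_sq
    rcases C.mem_or p with h | h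
    · rcases C.mem_cases_of_eight F huy ⟨h, hp⟩ with h' | ⟨v, hv, rfl⟩
      · exact Or.inl (C.V_sq F h')
      · rw [show v * u * (v * u) = v * (u * v * u⁻¹) * (u * u) by group]
        exact flip _ (key v hv u C.uP)
    · rcases C.mem_cases_of_eight F huy ⟨h, mul_mem hp C.tP⟩ with h' | ⟨v, hv, e⟩
      · have e : p * p = p * t * (t * (p * t) * t⁻¹) := by
          rw [C.t_inv, show p * t * (t * (p * t) * t) = p * (t * t) * p * (t * t) by group, C.t2,
            mul_one, mul_one]
        rw [e]; exact key _ h' t C.tP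
      · have e' : p = v * (u * t) := by
          rw [← mul_assoc, ← e, mul_assoc, C.t2, mul_one]
        rw [e', show v * (u * t) * (v * (u * t)) = v * ((u * t) * v * (u * t)⁻¹) * (u * t * (u * t)) by
          group, show u * t * (u * t) = u * u by
            rw [show u * t * (u * t) = u * (t * u) * t by group, C.tu, ← mul_assoc, mul_assoc, C.t2,
              mul_one]]
        exact flip _ (key v hv _ (mul_mem C.uP C.tP))
  · intro e
    exact huy (by rw [mul_left_cancel e])
  · have hyu : y * u = u * u * (u * y) := by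
      rw [huz, ← mul_assoc (u * u) (u * u), C.z_sq, one_mul]
    have hty : t * (u * u * y) = y * t := by
      calc t * (u * u * y) = t * (u * u * y) * (t * t) := by rw [C.t2, mul_one]
        _ = t * (u * u * y) * t * t := by group
        _ = y * t := by rw [C.t_zy F]
    calc t * u * (u * y) = t * (u * u * y) := by group
      _ = y * t := hty
      _ = u * u * (u * u) * y * t := by rw [C.z_sq, one_mul]
      _ = u * (u * u * (u * y)) * t := by group
      _ = u * y * (u * t) := by rw [← hyu]; group
      _ = u * y * (t * u) := by rw [C.tu]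
  · rw [show t * u * (t * u) = t * (u * t) * u by group, ← C.tu, ← mul_assoc, C.t2, one_mul]

end Cfg

end CfsgLib.FourCent
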