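import Cfsg.Agent.Lib.FourCent.Mover

/-!
# An element moving `z` forces `A ∩ P` to be homocyclic of order 16
-/

set_option autoImplicit false
set_option linter.style.haveILetI false

namespace CfsgLib.FourCent

open Subgroup

variable {H : Type*} [Group H] [Finite H] {A : Subgroup H} {P : Sylow 2 H} {t u : H}

omit [Finite H] in
theorem conj_pow_closed {X : Subgroup H} {n : H} (h : ∀ s ∈ X, n * s * n⁻¹ ∈ X) :
    ∀ (k : ℕ), ∀ s ∈ X, n ^ k * s * (n ^ k)⁻¹ ∈ X := by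
  intro k
  induction k with
  | zero => intro s hs; simpa using hs
  | succ k ih =>
    intro s hs
    have := h _ (ih s hs)
    rw [show n * (n ^ k * s * (n ^ k)⁻¹) * n⁻¹ = n ^ (k + 1) * s * (n ^ (k + 1))⁻¹ by
      rw [pow_succ']; group] at this
    exact this

theorem inv_conj_closed {X : Subgroup H} {n : H} (h : ∀ s ∈ X, n * s * n⁻¹ ∈ X) :
    ∀ s ∈ X, n⁻¹ * s * n ∈ X := by
  intro s hs
  have h1 := conj_pow_closed h (orderOf n - 1) s hs
  have e : n ^ (orderOf n - 1) = n⁻¹ := by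
    rw [eq_inv_iff_mul_eq_one, ← pow_succ, Nat.sub_add_cancel (orderOf_pos n), pow_orderOf_eq_one]
  rwa [e, inv_inv] at h1

/-- What a mover gives. -/
structure Homo (A : Subgroup H) (P : Sylow 2 H) (u y : H) (b : H) : Prop where
  le : ∀ s, Cfg.Mem A P s → s * y = y * s
  comm : ∀ a, Cfg.Mem A P a → ∀ c, Cfg.Mem A P c → a * c = c * a
  mem : Cfg.Mem A P b
  sq_ne_one : b * b ≠ 1
  sq_ne : b * b ≠ u * u
  exp : ∀ s, Cfg.Mem A P s → s ^ 4 = 1
  inv : ∀ s, Cfg.Mem A P s → s * s = 1 → s = 1 ∨ s = u * u ∨ s = y ∨ s = u * u * y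
  gen : ∀ s, Cfg.Mem A P s → ∃ i j : ℕ, i < 4 ∧ j < 4 ∧ s = u ^ i * b ^ j
  ind : ∀ i j : ℕ, i < 4 → j < 4 → u ^ i * b ^ j = 1 → i = 0 ∧ j = 0

namespace Cfg

variable (C : Cfg A P t u) {y : H} (F : Four A P u y)
include C F

theorem homo (huy : u * y = y * u) {n : H}
    (hn0 : ∀ s ∈ S0 A P y, n * s * n⁻¹ ∈ S0 A P y) (hnV : ∀ w ∈ C.V F, n * w * n⁻¹ ∈ C.V F)
    (hnz : n * (u * u) * n⁻¹ ≠ u * u) : ∃ b, Homo A P u y b := by
  classical
  have hnE : ∀ s ∈ C.E F, n * s * n⁻¹ ∈ C.E F := by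
    rintro s ⟨h0, h2, h3⟩
    refine ⟨hn0 s h0, ?_, fun p hp => ?_⟩
    · rw [show n * s * n⁻¹ * (n * s * n⁻¹) = n * (s * s) * n⁻¹ by group]
      exact hnV _ h2
    · have h := hnV _ (h3 _ (inv_conj_closed hn0 p hp))
      rwa [show n * s * n⁻¹ * p * (n * s * n⁻¹)⁻¹ * p⁻¹ =
        n * (s * (n⁻¹ * p * n) * s⁻¹ * (n⁻¹ * p * n)⁻¹) * n⁻¹ by group]
  have huE := C.u_mem_E F huy
  obtain ⟨b, hb⟩ : ∃ b, b = n * u * n⁻¹ := ⟨_, rfl⟩
  have hbE : b ∈ C.E F := hb ▸ hnE u huE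
  have hb2 : b * b = n * (u * u) * n⁻¹ := by rw [hb]; group
  have hz1V : b * b ∈ C.V F := hbE.2.1
  have hb1 : b * b ≠ 1 := fun e => C.z_ne_one (conj_eq_one_iff.1 (hb2.symm.trans e))
  have hbz : b * b ≠ u * u := hb2 ▸ hnz
  have hbV : b ∉ C.V F := fun h => hb1 (C.V_sq F h)
  have hbuV : ¬ ∃ v ∈ C.V F, b = u * v := by
    rintro ⟨v, hv, e⟩
    exact hbz (by rw [e]; exact C.uV_sq F huy hv)
  have cmt : ∀ {s w : H}, s ∈ C.E F → w ∈ C.V F → s * w = w * s := fun hs hw => C.S0_V F hs.1 hw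
  -- the twist of an element of `E` is a fixed point modulo `V`
  have twist : ∀ e ∈ C.E F, e * (t * e * t) ∈ C.V F → e ∈ C.V F ∨ ∃ v ∈ C.V F, e = u * v := by
    intro e he h
    refine C.fix_mod F he.1.1 ?_
    have : e⁻¹ * (t * e * t) = (e * e)⁻¹ * (e * (t * e * t)) := by group
    rw [this]
    exact mul_mem (inv_mem he.2.1) h
  have tw : ∀ s ∈ C.E F, (s ∈ C.V F ∨ ∃ v ∈ C.V F, s = u * v) ∨
      ∃ v ∈ C.V F, s⁻¹ * (t * s * t) = u * v := by
    intro s hs
    have hwE : s⁻¹ * (t * s * t) ∈ C.E F := mul_mem (inv_mem hs) (C.E_tconj F hs)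
    rcases twist _ hwE (by
      have e : t * (s⁻¹ * (t * s * t)) * t = (s⁻¹ * (t * s * t))⁻¹ := by
        rw [C.tconj_mul, C.tconj_tconj, show t * s⁻¹ * t = (t * s * t)⁻¹ by
          rw [mul_inv_rev, mul_inv_rev, C.t_inv, mul_assoc]]
        group
      rw [e, mul_inv_cancel]; exact one_mem _) with h | h
    · exact Or.inl (C.fix_mod F hs.1.1 h)
    · exact Or.inr h
  obtain ⟨vb, hvb, htb⟩ : ∃ v ∈ C.V F, b⁻¹ * (t * b * t) = u * v :=
    (tw b hbE).resolve_left (fun h => h.elim hbV hbuV)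
  have htb' : t * b * t = b * (u * vb) := by rw [← htb]; group
  obtain ⟨k, hk⟩ : ∃ k, k = u * b * u⁻¹ * b⁻¹ := ⟨_, rfl⟩
  have hkV : k ∈ C.V F := hk ▸ huE.2.2 b hbE.1
  have hub : u * b = k * (b * u) := by rw [hk]; group
  have cases_E : ∀ s ∈ C.E F, ∃ v ∈ C.V F, s = v ∨ s = u * v ∨ s = b * v ∨ s = b * u * v := by
    intro s hs
    rcases tw s hs with (h | ⟨v, hv, e⟩) | ⟨v, hv, e⟩
    · exact ⟨s, h, Or.inl rfl⟩
    · exact ⟨v, hv, Or.inr (Or.inl e)⟩
    have hts : t * s * t = s * (u * v) := by rw [← e]; group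
    have hqE : b⁻¹ * s ∈ C.E F := mul_mem (inv_mem hbE) hs
    have hq : (b⁻¹ * s)⁻¹ * (t * (b⁻¹ * s) * t) ∈ C.V F := by
      rw [C.tconj_mul, show t * b⁻¹ * t = (t * b * t)⁻¹ by
        rw [mul_inv_rev, mul_inv_rev, C.t_inv, mul_assoc], htb', hts]
      obtain ⟨q, hq⟩ : ∃ q, q = b⁻¹ * s := ⟨_, rfl⟩
      rw [← hq] at hqE ⊢
      have hc : vb⁻¹ * (u⁻¹ * q * u * q⁻¹) ∈ C.V F := by
        refine mul_mem (inv_mem hvb) ?_
        have h1 := (inv_mem huE : u⁻¹ ∈ C.E F).2.2 q hqE.1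
        rwa [inv_inv] at h1
      have e1 : (b * (u * vb))⁻¹ * (s * (u * v)) = vb⁻¹ * (u⁻¹ * q * u * q⁻¹) * q * v := by
        rw [hq]; group
      rw [e1, ← cmt hqE hc, mul_assoc, inv_mul_cancel_left]
      exact mul_mem hc hv
    rcases C.fix_mod F (mul_mem (inv_mem hbE) hs).1.1 hq with h | ⟨w, hw, e'⟩
    · exact ⟨b⁻¹ * s, h, Or.inr (Or.inr (Or.inl (by group)))⟩
    · exact ⟨w, hw, Or.inr (Or.inr (Or.inr (by rw [mul_assoc, ← e']; group)))⟩
  -- `E` is everything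
  have hEle : C.E F ≤ A ⊓ (P : Subgroup H) := fun s hs => hs.1.1
  have hSE : A ⊓ (P : Subgroup H) = C.E F := by
    refine eq_of_fixed (isPGroup_inf (A := A) (P := P)) hEle (fun s hs e he => C.E_conj F hs.2 he)
      C.t2 (fun s hs => C.tS hs) (fun e he => C.E_tconj F he) fun s hs he => ?_
    obtain ⟨e, hee⟩ : ∃ e, e = s⁻¹ * (t * s * t) := ⟨_, rfl⟩
    rw [← hee] at he
    have hts : t * s * t = s * e := by rw [hee]; group
    have h1 : e * (t * e * t) = 1 := by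
      have h2 : s * (e * (t * e * t)) = s := by
        rw [← mul_assoc, ← hts, ← C.tconj_mul, ← hts, C.tconj_tconj]
      exact mul_eq_left.1 h2
    rcases twist e he (by rw [h1]; exact one_mem _) with hev | ⟨v, hv, hev⟩
    · rcases C.fix_mod F hs (hee ▸ hev) with h | ⟨w, hw, e'⟩
      · exact C.V_le_E F h
      · exact e' ▸ mul_mem huE (C.V_le_E F hw)
    have hc : k * (u * u) * (v * vb) ∈ C.V F :=
      mul_mem (mul_mem hkV (C.z_mem_V F)) (mul_mem hv hvb)
    have hsb : (s * b)⁻¹ * (t * (s * b) * t) ∈ C.V F := by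
      rw [C.tconj_mul, hts, htb', hev]
      have e1 : u * v * (b * (u * vb)) = b * (k * (u * u) * (v * vb)) := by
        calc u * v * (b * (u * vb)) = u * (v * b) * u * vb := by group
          _ = u * (b * v) * u * vb := by rw [cmt hbE hv]
          _ = u * b * (v * u) * vb := by group
          _ = k * (b * u) * (u * v) * vb := by rw [hub, cmt huE hv]
          _ = k * b * (u * u) * (v * vb) := by group
          _ = b * k * (u * u) * (v * vb) := by rw [cmt hbE hkV]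
          _ = _ := by group
      rw [show s * (u * v) * (b * (u * vb)) = s * (u * v * (b * (u * vb))) by group, e1]
      rwa [← mul_assoc s b, inv_mul_cancel_left]
    have hsbE : s * b ∈ C.E F := by
      rcases C.fix_mod F (mul_mem hs hbE.1.1) hsb with h | ⟨w, hw, e'⟩
      · exact C.V_le_E F h
      · exact e' ▸ mul_mem huE (C.V_le_E F hw)
    simpa using mul_mem hsbE (inv_mem hbE)
  have hmem : ∀ s, Mem A P s → s ∈ C.E F := fun s hs => hSE.le hs
  -- the commutator of `u` and `b`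
  have hkz : k = 1 := by
    have hvu : ∀ {v : H}, v ∈ C.V F → u * v = v * u := fun hv => cmt huE hv
    have htk : t * k * t = k := by
      rw [hk, C.tconj_mul, C.tconj_mul, C.tconj_mul, C.tconj_eq_of_commute C.tu, htb',
        show t * u⁻¹ * t = (t * u * t)⁻¹ by rw [mul_inv_rev, mul_inv_rev, C.t_inv, mul_assoc],
        show t * b⁻¹ * t = (t * b * t)⁻¹ by rw [mul_inv_rev, mul_inv_rev, C.t_inv, mul_assoc],
        C.tconj_eq_of_commute C.tu, htb']
      calc u * (b * (u * vb)) * u⁻¹ * (b * (u * vb))⁻¹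
          = u * b * u * (vb * u⁻¹) * vb⁻¹ * u⁻¹ * b⁻¹ := by group
        _ = u * b * u * (u⁻¹ * vb) * vb⁻¹ * u⁻¹ * b⁻¹ := by
            rw [cmt (inv_mem huE) hvb]
        _ = u * b * u⁻¹ * b⁻¹ := by group
    rcases C.fix_involution (C.V_le F hkV) (C.V_sq F hkV) (C.commute_of_tconj_eq htk) with h | h
    · exact h
    exfalso
    -- `n` fixes `k = z`
    obtain ⟨b', hb'⟩ : ∃ b', b' = n * b * n⁻¹ := ⟨_, rfl⟩
    have hb'E : b' ∈ C.E F := hb' ▸ hnE b hbE
    have hsq' : b' * b' = n * (b * b) * n⁻¹ := by rw [hb']; group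
    have hne1 : b' * b' ≠ 1 := fun e => hb1 (conj_eq_one_iff.1 (hsq'.symm.trans e))
    have hne : b' * b' ≠ b * b := fun e => by
      rw [hsq', hb2] at e
      exact hnz (mul_left_cancel (mul_right_cancel e))
    have key : b * b' * b⁻¹ * b'⁻¹ = k := by
      obtain ⟨v, hv, e | e | e | e⟩ := cases_E b' hb'E
      · exact absurd (e ▸ C.V_sq F hv) hne1
      · calc b * b' * b⁻¹ * b'⁻¹ = b * u * (v * b⁻¹) * v⁻¹ * u⁻¹ := by rw [e]; group
          _ = (u * b * u⁻¹ * b⁻¹)⁻¹ := by rw [← cmt (inv_mem hbE) hv]; group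
          _ = k := by rw [← hk]; exact inv_eq_of_mul_eq_one_right (C.V_sq F hkV)
      · refine absurd ?_ hne
        calc b' * b' = b * (v * b) * v := by rw [e]; group
          _ = b * b * (v * v) := by rw [← cmt hbE hv]; group
          _ = b * b := by rw [C.V_sq F hv, mul_one]
      · calc b * b' * b⁻¹ * b'⁻¹ = b * b * u * (v * b⁻¹) * v⁻¹ * u⁻¹ * b⁻¹ := by rw [e]; group
          _ = b * (u * b * u⁻¹ * b⁻¹)⁻¹ * b⁻¹ := by rw [← cmt (inv_mem hbE) hv]; group
          _ = k := by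
            rw [← hk, inv_eq_of_mul_eq_one_right (C.V_sq F hkV), cmt hbE hkV, mul_inv_cancel_right]
    refine hnz ?_
    rw [← h]
    calc n * k * n⁻¹ = b * b' * b⁻¹ * b'⁻¹ := by rw [hk, hb', hb]; group
      _ = k := key
  have hubc : u * b = b * u := by rw [hub, hkz, one_mul]
  have hVform : ∀ v ∈ C.V F, ∃ i j : ℕ, v = u ^ i * b ^ j := by
    have hb2V := C.V_cases F hz1V
    have hzy : u * u * (u * u * y) = y := by rw [← mul_assoc, C.z_sq, one_mul]
    intro v hv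
    have hu2 : u ^ 2 = u * u := pow_two u
    have hb2' : b ^ 2 = b * b := pow_two b
    rcases hb2V with e | e | e | e
    · exact absurd e hb1
    · exact absurd e hbz
    · rcases C.V_cases F hv with rfl | rfl | rfl | rfl
      · exact ⟨0, 0, by simp⟩
      · exact ⟨2, 0, by simp [hu2]⟩
      · exact ⟨0, 2, by simp [hb2', e]⟩
      · exact ⟨2, 2, by rw [hu2, hb2', e]⟩
    · rcases C.V_cases F hv with rfl | rfl | rfl | rfl
      · exact ⟨0, 0, by simp⟩
      · exact ⟨2, 0, by simp [hu2]⟩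
      · exact ⟨2, 2, by rw [hu2, hb2', e, hzy]⟩
      · exact ⟨0, 2, by simp [hb2', e]⟩
  have hform : ∀ s, Mem A P s → ∃ i j : ℕ, s = u ^ i * b ^ j := by
    intro s hs
    have hbu : ∀ i : ℕ, b * u ^ i = u ^ i * b := fun i => ((Commute.symm hubc : Commute b u).pow_right i).eq
    obtain ⟨v, hv, e⟩ := cases_E s (hmem s hs)
    obtain ⟨i, j, hij⟩ := hVform v hv
    rcases e with e | e | e | e
    · exact ⟨i, j, e.trans hij⟩
    · exact ⟨i + 1, j, by rw [e, hij, pow_succ', mul_assoc]⟩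
    · exact ⟨i, j + 1, by rw [e, hij, pow_succ', ← mul_assoc, hbu, mul_assoc]⟩
    · refine ⟨i + 1, j + 1, ?_⟩
      rw [e, hij, ← mul_assoc, mul_assoc b u, ← pow_succ', hbu, mul_assoc, ← pow_succ']
  have hu4 := C.u_pow_four
  have hb4 : b ^ 4 = 1 := by
    rw [show (4 : ℕ) = 2 + 2 from rfl, pow_add, pow_two, C.V_sq F hz1V]
  have hcub : ∀ i j : ℕ, Commute (u ^ i) (b ^ j) := fun i j => (Commute.pow_pow hubc i j)
  have hgen : ∀ s, Mem A P s → ∃ i j : ℕ, i < 4 ∧ j < 4 ∧ s = u ^ i * b ^ j := by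
    intro s hs
    obtain ⟨i, j, e⟩ := hform s hs
    refine ⟨i % 4, j % 4, Nat.mod_lt _ (by norm_num), Nat.mod_lt _ (by norm_num), ?_⟩
    rw [e, pow_eq_pow_mod i hu4, pow_eq_pow_mod j hb4]
  have hind : ∀ i j : ℕ, i < 4 → j < 4 → u ^ i * b ^ j = 1 → i = 0 ∧ j = 0 := by
    intro i j hi hj h
    have hord : ∀ m : ℕ, m < 4 → u ^ m = 1 → m = 0 := fun m hm e => by
      have := orderOf_dvd_of_pow_eq_one e
      rw [C.u4] at this
      exact Nat.eq_zero_of_dvd_of_lt this hm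
    have hb2 : ∀ m : ℕ, b ^ (2 * m) = u ^ (2 * i) → m % 2 = 0 := fun m e => by
      by_contra hm
      have e1 : b ^ (2 * m) = b * b := by
        rw [pow_eq_pow_mod _ hb4, show 2 * m % 4 = 2 by omega, pow_two]
      rw [e1, pow_eq_pow_mod _ hu4] at e
      rcases (show 2 * i % 4 = 0 ∨ 2 * i % 4 = 2 by omega) with h' | h' <;> rw [h'] at e
      · exact hb1 (e.trans (pow_zero u))
      · exact hbz (e.trans (pow_two u))
    have hinv : b ^ j = (u ^ i)⁻¹ := eq_inv_of_mul_eq_one_right h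
    have hj2 := hb2 j (by
      rw [mul_comm 2 j, pow_mul, hinv, inv_pow, ← pow_mul, mul_comm i 2, inv_eq_iff_mul_eq_one,
        ← pow_add, pow_eq_pow_mod _ hu4, show (2 * i + 2 * i) % 4 = 0 by omega, pow_zero])
    rcases (show j = 0 ∨ j = 2 by omega) with rfl | rfl
    · rw [pow_zero, mul_one] at h
      exact ⟨hord i hi h, rfl⟩
    · exfalso
      have h22 : u ^ (2 * i) = 1 := by
        have := congrArg (· ^ 2) h
        simp only [one_pow] at this
        rw [(hcub i 2).mul_pow, ← pow_mul, ← pow_mul, hb4, mul_one, mul_comm i 2] at this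
        exact this
      have h23 := orderOf_dvd_of_pow_eq_one h22
      rw [C.u4] at h23
      rw [pow_two] at hinv
      rcases (show i = 0 ∨ i = 2 by omega) with rfl | rfl
      · exact hb1 (hinv.trans (by simp))
      · exact hbz (hinv.trans (by rw [pow_two, C.z_inv]))
  refine ⟨b, ⟨fun s hs => ((mem_S0 C F).1 (hmem s hs).1).2, ?_, hbE.1.1, hb1, hbz, ?_, ?_, hgen, hind⟩⟩
  · intro a ha c hc
    obtain ⟨i, j, -, -, rfl⟩ := hgen a ha
    obtain ⟨k', l, -, -, rfl⟩ := hgen c hc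
    exact (((Commute.refl u).pow_pow i k').mul_right (hcub i l)).mul_left
      ((hcub k' j).symm.mul_right ((Commute.refl b).pow_pow j l))
  · intro s hs
    obtain ⟨i, j, -, -, rfl⟩ := hgen s hs
    rw [(hcub i j).mul_pow, ← pow_mul, ← pow_mul, mul_comm i, mul_comm j, pow_mul, pow_mul, hu4, hb4,
      one_pow, one_pow, one_mul]
  · intro s hs h2
    refine C.V_cases F ?_
    obtain ⟨i, j, hi, hj, rfl⟩ := hgen s hs
    rw [← pow_two, (hcub i j).mul_pow, ← pow_mul, ← pow_mul] at h2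
    have h3 := hind ((i * 2) % 4) ((j * 2) % 4) (Nat.mod_lt _ (by norm_num)) (Nat.mod_lt _ (by norm_num))
      (by rw [← pow_eq_pow_mod _ hu4, ← pow_eq_pow_mod _ hb4]; exact h2)
    obtain ⟨i', rfl⟩ : 2 ∣ i := by omega
    obtain ⟨j', rfl⟩ : 2 ∣ j := by omega
    rw [pow_mul, pow_mul, pow_two, pow_two]
    exact mul_mem (pow_mem (C.z_mem_V F) _) (pow_mem hz1V _)

end Cfg

end CfsgLib.FourCent
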