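import Cfsg.Agent.Lib.FourCent.Outer
import Cfsg.Agent.Lib.AbelTwo.Homocyclic
import Cfsg.Agent.Lib.TwoGroups.ControlledTransfer
import Cfsg.Agent.Lib.Tech46.Terminal.MaxClass
import Cfsg.Agent.S0949

/-!
# All involutions of `A ∩ P` in the four-group: no such configuration
-/

set_option autoImplicit false
set_option linter.style.haveILetI false

namespace CfsgLib.FourCent

open Subgroup

universe v

/-- A perfect group has no homocyclic Sylow 2-subgroup of order 16. -/
theorem not_perfect_of_homocyclic {K : Type v} [Group K] [Finite K] (P : Sylow 2 K)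
    (hcard : Nat.card (P : Subgroup K) = 16)
    (hab : ∀ a ∈ (P : Subgroup K), ∀ b ∈ (P : Subgroup K), a * b = b * a)
    (h4 : ∀ a ∈ (P : Subgroup K), a ^ 4 = 1) {a b : K} (ha : a ∈ (P : Subgroup K))
    (hb : b ∈ (P : Subgroup K)) (ha2 : a ^ 2 ≠ 1) (hb2 : b ^ 2 ≠ 1) (hne : a ^ 2 ≠ b ^ 2)
    (hperf : commutator K = ⊤) : False := by
  classical
  haveI : Fact (Nat.Prime 2) := ⟨Nat.prime_two⟩
  set O := Cfsg.pPrimeCore 2 K
  haveI : O.Normal := Cfsg.pPrimeCore_normal 2 K
  set f := QuotientGroup.mk' O with hfdef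
  have hf : Function.Surjective f := QuotientGroup.mk'_surjective O
  have hinjP : ∀ p ∈ (P : Subgroup K), f p = 1 → p = 1 := by
    intro p hp h
    have hbot := CfsgLib.PCore.inf_eq_bot_of_isPGroup_coprime P.2
      (CfsgLib.PCore.pPrimeCore_coprime (p := 2) (G := K))
    rw [← Subgroup.mem_bot, ← hbot]
    exact ⟨hp, (QuotientGroup.eq_one_iff p).1 h⟩
  set P' : Sylow 2 (K ⧸ O) := P.mapSurjective hf
  have hinjr : Function.Injective (f.domRestrict (P : Subgroup K)) :=
    (injective_iff_map_eq_one _).2 fun p h => Subtype.ext (hinjP p p.2 h)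
  have hcard' : Nat.card (P' : Subgroup (K ⧸ O)) = 16 := by
    rw [show (P' : Subgroup (K ⧸ O)) = (P : Subgroup K).map f from rfl, ← MonoidHom.domRestrict_range,
      ← Nat.card_congr (MonoidHom.ofInjective hinjr).toEquiv]
    exact hcard
  have hab' : ∀ x ∈ (P' : Subgroup (K ⧸ O)), ∀ y ∈ (P' : Subgroup (K ⧸ O)), x * y = y * x := by
    rintro _ ⟨x, hx, rfl⟩ _ ⟨y, hy, rfl⟩
    rw [← map_mul, ← map_mul, hab x hx y hy]
  obtain ⟨e⟩ : Nonempty ((P' : Subgroup (K ⧸ O)) ≃* Multiplicative (ZMod (2 ^ 2) × ZMod (2 ^ 2))) := by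
    letI : CommGroup (P' : Subgroup (K ⧸ O)) :=
      { (inferInstance : Group (P' : Subgroup (K ⧸ O))) with
        mul_comm := fun s t => Subtype.ext (hab' s s.2 t t.2) }
    have hsq : ∀ {c : K}, c ∈ (P : Subgroup K) → c ^ 2 ≠ 1 → (f c) ^ 2 ≠ 1 := fun hc h h' =>
      h (hinjP _ (pow_mem hc 2) (by rw [map_pow]; exact h'))
    refine CfsgLib.AbelTwo.exists_equiv_homocyclic hcard' (fun x => ?_) (a := ⟨f a, ⟨a, ha, rfl⟩⟩)
      (b := ⟨f b, ⟨b, hb, rfl⟩⟩) (fun h => hsq ha ha2 (congrArg Subtype.val h))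
      (fun h => hsq hb hb2 (congrArg Subtype.val h)) (fun h => hne ?_)
    · obtain ⟨x, ⟨c, hc, rfl⟩⟩ := x
      exact Subtype.ext (show f c ^ 4 = 1 by rw [← map_pow, h4 c hc, map_one])
    · have h' : f (a ^ 2) = f (b ^ 2) := by rw [map_pow, map_pow]; exact congrArg Subtype.val h
      exact congrArg Subtype.val (hinjr (a₁ := ⟨a ^ 2, pow_mem ha 2⟩) (a₂ := ⟨b ^ 2, pow_mem hb 2⟩) h')
  have hO : ∀ N : Subgroup (K ⧸ O), N.Normal → Odd (Nat.card N) → N = ⊥ := by
    intro N hN hodd
    refine le_bot_iff.1 ?_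
    rw [← CfsgLib.PCore.pPrimeCore_quotient_pPrimeCore (p := 2) (G := K)]
    exact CfsgLib.PCore.le_pPrimeCore hN (Nat.coprime_two_right.2 hodd)
  obtain ⟨hn, -, hi⟩ := Cfsg.Agent.S0949.result P' 2 le_rfl e hO
  haveI := hn
  have hperf' : commutator (K ⧸ O) = ⊤ := by
    rw [_root_.commutator_def, ← Subgroup.map_top_of_surjective f hf, ← Subgroup.map_commutator,
      ← _root_.commutator_def, hperf]
  have hi1 : (P' : Subgroup (K ⧸ O)).index = 1 := by
    rcases hi with h | h
    · exact h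
    · haveI : Fact (Nat.Prime 3) := ⟨Nat.prime_three⟩
      have hc : IsCyclic ((K ⧸ O) ⧸ (P' : Subgroup (K ⧸ O))) := isCyclic_of_prime_card (p := 3) h
      have hle : commutator (K ⧸ O) ≤ (P' : Subgroup (K ⧸ O)) :=
        Subgroup.Normal.quotient_commutative_iff_commutator_le.1 hc.isMulCommutative
      rw [hperf', top_le_iff] at hle
      rw [hle, Subgroup.index_top]
  have htop := Subgroup.index_eq_one.1 hi1
  have hbot : commutator (K ⧸ O) = ⊥ := by
    rw [eq_bot_iff, _root_.commutator_def, Subgroup.commutator_le]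
    intro x _ y _
    have hc : x * y = y * x := hab' x (htop ▸ mem_top x) y (htop ▸ mem_top y)
    rw [Subgroup.mem_bot, commutatorElement_eq_one_iff_mul_comm]
    exact hc
  rw [hperf'] at hbot
  rw [htop, hbot, Subgroup.card_bot] at hcard'
  omega

/-- In a perfect group a central element of a Sylow subgroup lies in its derived subgroup. -/
theorem mem_commutator_of_central {K : Type v} [Group K] [Finite K] (hperf : commutator K = ⊤)
    (T : Sylow 2 K) {x : K} (hx : x ∈ (T : Subgroup K)) (hc : x ∈ center K) :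
    (⟨x, hx⟩ : (T : Subgroup K)) ∈ commutator (T : Subgroup K) := by
  classical
  haveI : Fact (Nat.Prime 2) := ⟨Nat.prime_two⟩
  let φ : (T : Subgroup K) →* Abelianization (T : Subgroup K) := Abelianization.of
  have h := CfsgLib.TwoGroups.transfer_eq_pow_of_controlled φ x hx (fun k a hk => by
    have e : a⁻¹ * x ^ k * a = x ^ k := by
      rw [mul_assoc, ← mem_center_iff.1 (pow_mem hc k) a, inv_mul_cancel_left]
    rw [← map_pow]
    exact congrArg φ (Subtype.ext e))
  have h1 : MonoidHom.transfer φ x = 1 := by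
    have : commutator K ≤ (MonoidHom.transfer φ).ker := Abelianization.commutator_subset_ker _
    rw [hperf] at this
    exact MonoidHom.mem_ker.1 (this (mem_top x))
  rw [h1, ← map_pow] at h
  have hmem : (⟨x, hx⟩ : (T : Subgroup K)) ^ (T : Subgroup K).index ∈ commutator (T : Subgroup K) := by
    rw [← Abelianization.ker_of]
    exact MonoidHom.mem_ker.2 h.symm
  have hco : (orderOf (⟨x, hx⟩ : (T : Subgroup K))).Coprime (T : Subgroup K).index := by
    obtain ⟨k, hk⟩ := IsPGroup.iff_orderOf.1 T.2 ⟨x, hx⟩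
    rw [hk]
    exact Nat.Coprime.pow_left _ (Nat.prime_two.coprime_iff_not_dvd.2 T.not_dvd_index)
  obtain ⟨m, hm⟩ := exists_pow_eq_self_of_coprime hco.symm
  rw [← hm]
  exact pow_mem hmem m

variable {H : Type v} [Group H] [Finite H] {A : Subgroup H} {P : Sylow 2 H} {t u : H}

namespace Cfg

variable (C : Cfg A P t u) {y : H} (F : Four A P u y)
include C F

theorem homo_false {b : H} (hb : Homo A P u y b) : False := by
  classical
  haveI := C.normal
  let T : Sylow 2 A := CfsgLib.GammaRankOne.sylowIn A P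
  let bA : A := ⟨b, hb.mem.1⟩
  let uA : A := ⟨u, C.uA⟩
  have hmem : ∀ i j : ℕ, Mem A P (u ^ i * b ^ j) := fun i j =>
    mul_mem (pow_mem C.uS i) (pow_mem hb.mem j)
  have hcm : ∀ i j : ℕ, Commute (u ^ i) (b ^ j) := fun i j =>
    (show Commute u b from hb.comm u C.uS b hb.mem).pow_pow i j
  let g : Fin 4 × Fin 4 → (T : Subgroup A) := fun p =>
    ⟨⟨u ^ (p.1 : ℕ) * b ^ (p.2 : ℕ), (hmem _ _).1⟩, (hmem _ _).2⟩
  have hcard : Nat.card (T : Subgroup A) = 16 := by
    rw [← Nat.card_congr (Equiv.ofBijective g ⟨?_, ?_⟩)]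
    · simp
    · rintro ⟨i, j⟩ ⟨k, l⟩ h
      have h' : u ^ (i : ℕ) * b ^ (j : ℕ) = u ^ (k : ℕ) * b ^ (l : ℕ) :=
        congrArg (fun q : (T : Subgroup A) => ((q : A) : H)) h
      have hb4 := hb.exp b hb.mem
      have h1 : u ^ (((i : ℕ) + (4 - k)) % 4) * b ^ (((j : ℕ) + (4 - l)) % 4) = 1 := by
        rw [← pow_eq_pow_mod _ C.u_pow_four, ← pow_eq_pow_mod _ hb4, pow_add, pow_add,
          ((hcm (4 - (k : ℕ)) j)).mul_mul_mul_comm, h', ← (hcm (4 - (k : ℕ)) l).mul_mul_mul_comm,
          ← pow_add, ← pow_add, Nat.add_sub_cancel' k.2.le, Nat.add_sub_cancel' l.2.le, C.u_pow_four,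
          hb4, mul_one]
      have h2 := hb.ind _ _ (Nat.mod_lt _ (by norm_num)) (Nat.mod_lt _ (by norm_num)) h1
      have := i.2; have := j.2; have := k.2; have := l.2
      exact Prod.ext (Fin.ext (by dsimp only; omega)) (Fin.ext (by dsimp only; omega))
    · rintro ⟨⟨s, hs⟩, hs'⟩
      obtain ⟨i, j, hi, hj, e⟩ := hb.gen s ⟨hs, hs'⟩
      exact ⟨(⟨i, hi⟩, ⟨j, hj⟩), Subtype.ext (Subtype.ext e.symm)⟩
  refine not_perfect_of_homocyclic T hcard
    (fun a ha c hc => Subtype.ext (hb.comm a ⟨a.2, ha⟩ c ⟨c.2, hc⟩))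
    (fun a ha => Subtype.ext (hb.exp a ⟨a.2, ha⟩)) (a := uA) (b := bA) C.uP hb.mem.2
    (fun h => C.z_ne_one ?_) (fun h => hb.sq_ne_one ?_) (fun h => hb.sq_ne ?_) C.perf
  · rw [← pow_two]; exact congrArg Subtype.val h
  · rw [← pow_two]; exact congrArg Subtype.val h
  · rw [← pow_two, ← pow_two]; exact (congrArg Subtype.val h).symm

theorem conj_involution {x a : H} (hx : Mem A P x) (hx2 : x * x = 1) (ha : a ∈ A)
    (haP : a * x * a⁻¹ ∈ (P : Subgroup H))
    (hinvV : ∀ s, Mem A P s → s * s = 1 → s ∈ C.V F) : a * x * a⁻¹ ∈ C.V F :=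
  hinvV _ ⟨C.normal.conj_mem _ hx.1 a, haP⟩ (by
    rw [show a * x * a⁻¹ * (a * x * a⁻¹) = a * (x * x) * a⁻¹ by group, hx2]; group)

/-- `y` central in `A ∩ P`. -/
theorem central_inner_false (hV : ∀ s, Mem A P s → s * y = y * s)
    (hinvV : ∀ s, Mem A P s → s * s = 1 → s ∈ C.V F) : False := by
  classical
  haveI : Fact (Nat.Prime 2) := ⟨Nat.prime_two⟩
  haveI := C.normal
  rcases C.homo_or_pw F hV with ⟨b, hb⟩ | hpw
  · exact C.homo_false F hb
  have hyc : ∀ a ∈ A, a * y = y * a := by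
    refine C.isolated_central F.mem F.sq F.ne_one fun a ha haP => ?_
    have h := C.conj_involution F F.mem F.sq ha haP hinvV
    rcases C.V_cases F h with e | e | e | e
    · exact absurd (conj_eq_one_iff.1 e) F.ne_one
    · exact absurd (show a⁻¹ * (u * u) * a⁻¹⁻¹ = y by rw [← e]; group) (hpw _ (inv_mem ha)).1
    · exact e
    · exact absurd e (hpw a ha).2.2
  have hzc : ∀ a ∈ A, a * (u * u) = u * u * a := by
    refine C.isolated_central C.zS C.z_sq C.z_ne_one fun a ha haP => ?_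
    have h := C.conj_involution F C.zS C.z_sq ha haP hinvV
    rcases C.V_cases F h with e | e | e | e
    · exact absurd (conj_eq_one_iff.1 e) C.z_ne_one
    · exact e
    · exact absurd e (hpw a ha).1
    · exact absurd e (hpw a ha).2.1
  let T : Sylow 2 A := CfsgLib.GammaRankOne.sylowIn A P
  have hcen : ∀ (x : H) (hx : x ∈ A), (∀ a ∈ A, a * x = x * a) → (⟨x, hx⟩ : A) ∈ center A :=
    fun x hx h => mem_center_iff.2 fun a => Subtype.ext (h a a.2)
  have hyT := mem_commutator_of_central C.perf T (x := ⟨y, F.mem.1⟩) F.mem.2 (hcen y F.mem.1 hyc)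
  have hzT := mem_commutator_of_central C.perf T (x := ⟨u * u, C.zS.1⟩) C.zS.2
    (hcen _ C.zS.1 hzc)
  -- the quotient `P ⧸ V`
  let Vp : Subgroup (P : Subgroup H) := (C.V F).subgroupOf (P : Subgroup H)
  haveI : Vp.Normal := ⟨fun w hw p => C.V_conj F p.2 hw⟩
  let tq : (P : Subgroup H) ⧸ Vp := QuotientGroup.mk ⟨t, C.tP⟩
  have htq : orderOf tq = 2 := by
    refine CfsgLib.Involutions.orderOf_eq_two_iff_mul.2 ⟨fun h => ?_, ?_⟩
    · exact C.tA (C.V_le F ((QuotientGroup.eq_one_iff (N := Vp) _).1 h : t ∈ C.V F)).1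
    · show (QuotientGroup.mk (⟨t, C.tP⟩ * ⟨t, C.tP⟩) : (P : Subgroup H) ⧸ Vp) = 1
      rw [show (⟨t, C.tP⟩ : (P : Subgroup H)) * ⟨t, C.tP⟩ = 1 from Subtype.ext C.t2]
      rfl
  have hcard : Nat.card (centralizer ({tq} : Set ((P : Subgroup H) ⧸ Vp))) ≤ 4 := by
    let uP : (P : Subgroup H) := ⟨u, C.uP⟩
    let tP : (P : Subgroup H) := ⟨t, C.tP⟩
    have hsub : ((centralizer ({tq} : Set ((P : Subgroup H) ⧸ Vp))) : Set ((P : Subgroup H) ⧸ Vp)) ⊆
        {1, QuotientGroup.mk uP, tq, QuotientGroup.mk (uP * tP)} := by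
      rintro q hq
      obtain ⟨p, rfl⟩ := QuotientGroup.mk_surjective q
      have h : (QuotientGroup.mk (p * tP) : (P : Subgroup H) ⧸ Vp) = QuotientGroup.mk (tP * p) :=
        mem_centralizer_singleton_iff.1 hq
      have hv' := QuotientGroup.eq.1 h
      have hv : ((p : H) * t)⁻¹ * (t * p) ∈ C.V F := hv'
      have key : ∀ s : (P : Subgroup H), (s : H) ∈ A → (s : H)⁻¹ * (t * s * t) ∈ C.V F →
          (QuotientGroup.mk s : (P : Subgroup H) ⧸ Vp) = 1 ∨
            (QuotientGroup.mk s : (P : Subgroup H) ⧸ Vp) = QuotientGroup.mk uP := by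
        intro s hs h'
        rcases C.fix_mod F ⟨hs, s.2⟩ h' with e | ⟨w, hw, e⟩
        · exact Or.inl ((QuotientGroup.eq_one_iff _).2 e)
        · refine Or.inr (QuotientGroup.eq.2 ?_)
          show (s : H)⁻¹ * u ∈ C.V F
          rw [e, mul_inv_rev, mul_assoc, inv_mul_cancel, mul_one]
          exact inv_mem hw
      rcases C.mem_or (p : H) with hp | hp
      · have e : (p : H)⁻¹ * (t * p * t) = t * (((p : H) * t)⁻¹ * (t * p)) * t := by
          rw [mul_inv_rev, C.t_inv, show t * (t * (p : H)⁻¹ * (t * p)) * t =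
            (t * t) * ((p : H)⁻¹ * (t * p * t)) by group, C.t2, one_mul]
        rcases key p hp (e ▸ C.V_tconj F hv) with h' | h' <;> rw [h']
        · exact Or.inl rfl
        · exact Or.inr (Or.inl rfl)
      · have e : ((p * tP : (P : Subgroup H)) : H)⁻¹ * (t * ((p * tP : (P : Subgroup H)) : H) * t) =
            ((p : H) * t)⁻¹ * (t * p) := by
          show ((p : H) * t)⁻¹ * (t * ((p : H) * t) * t) = _
          rw [show t * ((p : H) * t) * t = t * p * (t * t) by group, C.t2, mul_one]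
        have hpq : (QuotientGroup.mk p : (P : Subgroup H) ⧸ Vp) = QuotientGroup.mk (p * tP) * tq := by
          show _ = QuotientGroup.mk (p * tP * tP)
          rw [mul_assoc, show tP * tP = 1 from Subtype.ext C.t2, mul_one]
        rcases key (p * tP) hp (e ▸ hv) with h' | h' <;> rw [hpq, h']
        · exact Or.inr (Or.inr (Or.inl (one_mul _)))
        · exact Or.inr (Or.inr (Or.inr rfl))
    refine (Set.ncard_le_ncard hsub (Set.toFinite _)).trans ?_
    refine (Set.ncard_insert_le _ _).trans (Nat.succ_le_succ ?_)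
    refine (Set.ncard_insert_le _ _).trans (Nat.succ_le_succ ?_)
    exact (Set.ncard_insert_le _ _).trans (by rw [Set.ncard_singleton])
  obtain ⟨Cy, hCc, hCi⟩ := CfsgLib.Tech46.Terminal.exists_cyclic_index_two _ _ le_rfl (P.2.to_quotient Vp) tq htq hcard
  -- pull back to `A ∩ P`
  let S : Subgroup H := A ⊓ (P : Subgroup H)
  let Vs : Subgroup S := (C.V F).subgroupOf S
  let toQ : S →* (P : Subgroup H) ⧸ Vp :=
    (QuotientGroup.mk' Vp).comp (Subgroup.inclusion (inf_le_right : S ≤ (P : Subgroup H)))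
  have hker : ∀ s : S, toQ s = 1 ↔ (s : H) ∈ C.V F := fun s => QuotientGroup.eq_one_iff _
  let B : Subgroup S := Cy.comap toQ
  have hBi : B.index ≠ 0 ∧ B.index ≤ 2 := by
    refine ⟨Subgroup.index_ne_zero_of_finite, ?_⟩
    rw [show B = Cy.comap toQ from rfl, Subgroup.index_comap]
    refine le_trans ?_ hCi
    rw [← Subgroup.relIndex_top_right]
    exact Subgroup.relIndex_le_of_le_right le_top (by rw [Subgroup.relIndex_top_right]; exact Subgroup.index_ne_zero_of_finite)
  obtain ⟨g, hgB, hg⟩ : ∃ g : S, g ∈ B ∧ ∀ s ∈ B, ∃ (i : ℤ) (w : S), (w : H) ∈ C.V F ∧ s = g ^ i * w := by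
    haveI := hCc
    haveI : IsCyclic ↥(Cy ⊓ toQ.range) :=
      isCyclic_of_injective (Subgroup.inclusion inf_le_left) (Subgroup.inclusion_injective _)
    obtain ⟨⟨q, hqmem⟩, hq⟩ := IsCyclic.exists_generator (α := ↥(Cy ⊓ toQ.range))
    obtain ⟨g, rfl⟩ := hqmem.2
    refine ⟨g, hqmem.1, fun s hs => ?_⟩
    obtain ⟨i, hi⟩ := mem_zpowers_iff.1 (hq ⟨toQ s, hs, s, rfl⟩)
    refine ⟨i, (g ^ i)⁻¹ * s, ?_, by group⟩
    have hi' : toQ g ^ i = toQ s := congrArg Subtype.val hi
    refine (hker _).1 ?_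
    rw [map_mul, map_inv, map_zpow, hi', inv_mul_cancel]
  have hVc : ∀ w : S, (w : H) ∈ C.V F → ∀ s : S, s * w = w * s := fun w hw s =>
    Subtype.ext (C.S0_V F ((C.mem_S0 F).2 ⟨s.2, hV _ s.2⟩) hw)
  -- the derived subgroup is cyclic
  obtain ⟨k, hk⟩ : ∃ k : S, commutator S ≤ zpowers k := by
    rcases Nat.lt_or_ge B.index 2 with h1 | h2
    · have hB : B = ⊤ := Subgroup.index_eq_one.1 (by omega)
      refine ⟨1, ?_⟩
      rw [_root_.commutator_def, Subgroup.commutator_le]
      intro a _ b _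
      obtain ⟨i, v, hv, rfl⟩ := hg a (hB ▸ mem_top a)
      obtain ⟨j, w, hw, rfl⟩ := hg b (hB ▸ mem_top b)
      rw [commutatorElement_eq_one_iff_mul_comm.2]
      · exact one_mem _
      exact (((Commute.refl g).zpow_zpow i j).mul_right (hVc w hw _)).mul_left
        ((hVc v hv _).symm : Commute v (g ^ j * w))
    have hB2 : B.index = 2 := le_antisymm hBi.2 h2
    haveI : B.Normal := Subgroup.normal_of_index_eq_two hB2
    obtain ⟨s0, hs0⟩ := Subgroup.index_eq_two_iff.1 hB2
    refine ⟨s0 * g * s0⁻¹ * g⁻¹, ?_⟩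
    set k := s0 * g * s0⁻¹ * g⁻¹ with hk
    obtain ⟨i, v, hv, hi⟩ := hg _ (‹B.Normal›.conj_mem g hgB s0)
    have hcgv : Commute g v := hVc v hv g
    have hk' : k = g ^ (i - 1) * v := by
      rw [hk, hi, mul_assoc, ← (hcgv.inv_left).eq, ← mul_assoc, zpow_sub_one]
    have hgk : Commute g k := by
      rw [hk']; exact ((Commute.refl g).zpow_right _).mul_right hcgv
    have hsk : s0 * k * s0⁻¹ ∈ zpowers k := by
      refine ⟨i, ?_⟩
      show k ^ i = s0 * k * s0⁻¹
      conv_rhs => rw [hk', show s0 * (g ^ (i - 1) * v) * s0⁻¹ = s0 * g ^ (i - 1) * (v * s0⁻¹) by group,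
        ← hVc v hv s0⁻¹, ← mul_assoc, ← conj_zpow, hi, (hcgv.zpow_left i).mul_zpow, ← zpow_mul, mul_assoc]
      rw [hk', (hcgv.zpow_left (i - 1)).mul_zpow, ← zpow_mul, mul_comm i (i - 1)]
      congr 1
      rw [← zpow_add_one, sub_add_cancel]
    have hall : ∀ s : S, ∃ (e : S) (j : ℤ) (w : S), (w : H) ∈ C.V F ∧ (e = 1 ∨ e = s0⁻¹) ∧ s = g ^ j * w * e := by
      intro s
      rcases hs0 s with ⟨h, -⟩ | ⟨h, -⟩
      · obtain ⟨j, w, hw, e⟩ := hg _ h
        exact ⟨s0⁻¹, j, w, hw, Or.inr rfl, by rw [← e, mul_inv_cancel_right]⟩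
      · obtain ⟨j, w, hw, e⟩ := hg _ h
        exact ⟨1, j, w, hw, Or.inl rfl, by rw [mul_one]; exact e⟩
    haveI : (zpowers k).Normal := by
      have hfin : ∀ x : S, x * k * x⁻¹ ∈ zpowers k → ∀ m ∈ zpowers k, x * m * x⁻¹ ∈ zpowers k := by
        rintro x hx m ⟨n, rfl⟩
        show x * k ^ n * x⁻¹ ∈ zpowers k
        rw [← conj_zpow]
        exact zpow_mem hx n
      refine ⟨fun m hm s => ?_⟩
      obtain ⟨e, j, w, hw, he, rfl⟩ := hall s
      have hm' : e * m * e⁻¹ ∈ zpowers k := by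
        rcases he with rfl | rfl
        · simpa using hm
        · rw [inv_inv]
          exact inv_conj_closed (hfin s0 hsk) m hm
      obtain ⟨n, hn⟩ := hm'
      have hn' : k ^ n = e * m * e⁻¹ := hn
      have hc : Commute (g ^ j * w) (k ^ n) :=
        ((hgk.zpow_left j).mul_left (hVc w hw k).symm).zpow_right n
      rw [show g ^ j * w * e * m * (g ^ j * w * e)⁻¹ = g ^ j * w * (e * m * e⁻¹) * (g ^ j * w)⁻¹ by group,
        ← hn', hc.eq, mul_inv_cancel_right]
      exact zpow_mem (mem_zpowers k) n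
    rw [_root_.commutator_def, Subgroup.commutator_le]
    intro a _ b _
    rw [← QuotientGroup.eq_one_iff, ← QuotientGroup.mk'_apply, map_commutatorElement,
      commutatorElement_eq_one_iff_mul_comm]
    set π := QuotientGroup.mk' (zpowers k)
    have hgs : Commute (π g) (π s0⁻¹) := by
      have h : π (s0 * g * s0⁻¹ * g⁻¹) = 1 := (QuotientGroup.eq_one_iff _).2 (mem_zpowers k)
      rw [map_mul, map_mul, map_mul, map_inv, map_inv, mul_inv_eq_one] at h
      have hc : Commute (π g) (π s0) := by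
        calc π g * π s0 = π s0 * π g * (π s0)⁻¹ * π s0 := by rw [h]
          _ = π s0 * π g := by group
      rw [map_inv]; exact hc.inv_right
    have hgen : ∀ x : S, Commute (π g) (π x) ∧ ((Commute (π s0⁻¹) (π x))) := by
      intro x
      obtain ⟨e, j, w, hw, he, rfl⟩ := hall x
      have hw1 : ∀ y : S, Commute (π y) (π w) := fun y => (show Commute y w from hVc w hw y).map π
      rw [map_mul, map_mul, map_zpow]
      refine ⟨(((Commute.refl _).zpow_right j).mul_right (hw1 g)).mul_right ?_,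
        ((hgs.symm.zpow_right j).mul_right (hw1 _)).mul_right ?_⟩
      · rcases he with rfl | rfl
        · rw [map_one]; exact Commute.one_right _
        · exact hgs
      · rcases he with rfl | rfl
        · rw [map_one]; exact Commute.one_right _
        · exact Commute.refl _
    obtain ⟨e, j, w, hw, he, rfl⟩ := hall a
    have hw1 : Commute (π w) (π b) := (show Commute w b from (hVc w hw b).symm).map π
    rw [map_mul, map_mul, map_zpow]
    refine (((hgen b).1.zpow_left j).mul_left hw1).mul_left ?_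
    rcases he with rfl | rfl
    · rw [map_one]; exact Commute.one_left _
    · exact (hgen b).2
  let ψ : (T : Subgroup A) →* S :=
    { toFun := fun q => ⟨((q : A) : H), (q : A).2, q.2⟩
      map_one' := rfl
      map_mul' := fun _ _ => rfl }
  have hmapc : (commutator (T : Subgroup A)).map ψ ≤ zpowers k := by
    refine le_trans ?_ hk
    rw [_root_.commutator_def, Subgroup.map_commutator, _root_.commutator_def]
    exact Subgroup.commutator_mono le_top le_top
  obtain ⟨i, hi⟩ := mem_zpowers_iff.1 (hmapc (Subgroup.mem_map_of_mem ψ hyT))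
  obtain ⟨j, hj⟩ := mem_zpowers_iff.1 (hmapc (Subgroup.mem_map_of_mem ψ hzT))
  have hi' : (k : H) ^ i = y := by
    rw [← SubgroupClass.coe_zpow, hi]; rfl
  have hj' : (k : H) ^ j = u * u := by
    rw [← SubgroupClass.coe_zpow, hj]; rfl
  obtain ⟨N, hN⟩ : ∃ N, orderOf (k : H) = N := ⟨_, rfl⟩
  have hz1 := CfsgLib.GammaRankOne.zp_one hN (i := i)
  have hi2 : (N : ℤ) ∣ i + i := by
    rw [← CfsgLib.GammaRankOne.zp_one hN, zpow_add, hi', F.sq]
  have hj2 : (N : ℤ) ∣ j + j := by
    rw [← CfsgLib.GammaRankOne.zp_one hN, zpow_add, hj', C.z_sq]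
  have hij : (N : ℤ) ∣ i ∨ (N : ℤ) ∣ j ∨ (N : ℤ) ∣ i - j := by
    obtain ⟨a, ha⟩ := hi2
    obtain ⟨b, hb⟩ := hj2
    rcases Int.even_or_odd a with ⟨a', rfl⟩ | ⟨a', rfl⟩
    · exact Or.inl ⟨a', by linarith⟩
    rcases Int.even_or_odd b with ⟨b', rfl⟩ | ⟨b', rfl⟩
    · exact Or.inr (Or.inl ⟨b', by linarith⟩)
    exact Or.inr (Or.inr ⟨a' - b', by linarith⟩)
  rcases hij with h | h | h <;> rw [← CfsgLib.GammaRankOne.zp_one hN] at h
  · exact F.ne_one (hi'.symm.trans h)
  · exact C.z_ne_one (hj'.symm.trans h)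
  · rw [zpow_sub, hi', hj', mul_inv_eq_one] at h
    exact F.ne_z h

/-- Some element of `A ∩ P` moves `y`. -/
theorem moved_inner_false (huy : u * y = y * u) {s₀ : H} (hs₀ : Mem A P s₀) (hmove : s₀ * y ≠ y * s₀)
    (hinvV : ∀ s, Mem A P s → s * s = 1 → s ∈ C.V F) : False := by
  classical
  haveI : Fact (Nat.Prime 2) := ⟨Nat.prime_two⟩
  haveI := C.normal
  let S : Subgroup H := A ⊓ (P : Subgroup H)
  have hzc : ∀ a ∈ A, a * (u * u) = u * u * a := by
    refine C.isolated_central C.zS C.z_sq C.z_ne_one fun a ha haP => ?_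
    by_contra hne
    have hV' := C.conj_involution F C.zS C.z_sq ha haP hinvV
    obtain ⟨y', hy'⟩ : ∃ y', y' = a * (u * u) * a⁻¹ := ⟨_, rfl⟩
    rw [← hy'] at hV' hne
    have hy'A : y' ∈ A := (C.V_le F hV').1
    -- `C_S(y)` and `a S a⁻¹` centralise `y'`
    let T : Sylow 2 A := CfsgLib.GammaRankOne.sylowIn A P
    let K : Subgroup A := centralizer ({(⟨y', hy'A⟩ : A)} : Set A)
    have hTK : (((⟨a, ha⟩ : A) • T : Sylow 2 A) : Subgroup A) ≤ K := by
      intro x hx
      rw [Sylow.coe_subgroup_smul, Subgroup.mem_pointwise_smul_iff_inv_smul_mem] at hx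
      have hP : a⁻¹ * (x : H) * a ∈ (P : Subgroup H) := by
        have h : (⟨a, ha⟩⁻¹ * x * ⟨a, ha⟩ : A) ∈ (T : Subgroup A) := by
          simpa [MulAut.smul_def] using hx
        exact h
      refine mem_centralizer_singleton_iff.2 (Subtype.ext ?_)
      show (x : H) * y' = y' * x
      have := C.z_comm hP
      calc (x : H) * y' = a * (a⁻¹ * x * a * (u * u)) * a⁻¹ := by rw [hy']; group
        _ = y' * x := by rw [this, hy']; group
    let T' : Sylow 2 K := ((⟨a, ha⟩ : A) • T).subtype hTK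
    let Q : Subgroup K := (S0 A P y).comap (A.subtype.comp K.subtype)
    have hQ : IsPGroup 2 Q :=
      (P.2.to_le (show S0 A P y ≤ (P : Subgroup H) from fun s hs => hs.1.2)).comap_of_injective _
        (fun _ _ h => Subtype.ext (Subtype.ext h))
    obtain ⟨c, hc⟩ := CfsgLib.Involutions.exists_conj_le_sylow hQ T'
    obtain ⟨n, hn⟩ : ∃ n, n = a⁻¹ * ((c : A) : H) := ⟨_, rfl⟩
    have hcy : ((c : A) : H) * y' = y' * (c : A) :=
      congrArg Subtype.val (mem_centralizer_singleton_iff.1 c.2)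
    have hny : n * y' * n⁻¹ = u * u := by
      rw [hn, show a⁻¹ * ((c : A) : H) * y' * (a⁻¹ * ((c : A) : H))⁻¹ =
        a⁻¹ * (((c : A) : H) * y') * (((c : A) : H))⁻¹ * a by group, hcy, hy']
      group
    have hnS : ∀ s ∈ S0 A P y, Mem A P (n * s * n⁻¹) := by
      intro s hs
      have hnA : n ∈ A := hn ▸ mul_mem (inv_mem ha) (c : A).2
      refine ⟨C.normal.conj_mem s hs.1.1 n, ?_⟩
      have hsK : (⟨s, hs.1.1⟩ : A) ∈ K :=
        mem_centralizer_singleton_iff.2 (Subtype.ext (C.S0_V F hs hV'))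
      have h := hc ⟨⟨s, hs.1.1⟩, hsK⟩ hs
      have h' : ((c * ⟨⟨s, hs.1.1⟩, hsK⟩ * c⁻¹ : K) : A) ∈
          (((⟨a, ha⟩ : A) • T : Sylow 2 A) : Subgroup A) := h
      rw [Sylow.coe_subgroup_smul, Subgroup.mem_pointwise_smul_iff_inv_smul_mem] at h'
      have h2 : a⁻¹ * (((c : A) : H) * s * ((c : A) : H)⁻¹) * a ∈ (P : Subgroup H) := by
        have h3 : (⟨a, ha⟩⁻¹ * ((c : A) * ⟨s, hs.1.1⟩ * (c : A)⁻¹) * ⟨a, ha⟩ : A) ∈ (T : Subgroup A) := by
          simp [MulAut.smul_def] at h'
          convert h' using 1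
          group
        exact h3
      rw [hn, show a⁻¹ * ((c : A) : H) * s * (a⁻¹ * ((c : A) : H))⁻¹ =
        a⁻¹ * (((c : A) : H) * s * ((c : A) : H)⁻¹) * a by group]
      exact h2
    have hnV : ∀ w ∈ C.V F, n * w * n⁻¹ ∈ C.V F := fun w hw => hinvV _ (hnS w (C.V_le_S0 F hw)) (by
      rw [show n * w * n⁻¹ * (n * w * n⁻¹) = n * (w * w) * n⁻¹ by group, C.V_sq F hw]; group)
    have hn0 : ∀ s ∈ S0 A P y, n * s * n⁻¹ ∈ S0 A P y := by
      intro s hs
      refine (C.mem_S0 F).2 ⟨hnS s hs, ?_⟩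
      have hv := inv_conj_closed hnV y (C.y_mem_V F)
      have h := C.S0_V F hs hv
      calc n * s * n⁻¹ * y = n * (s * (n⁻¹ * y * n)) * n⁻¹ := by group
        _ = n * (n⁻¹ * y * n * s) * n⁻¹ := by rw [h]
        _ = _ := by group
    obtain ⟨b, hb⟩ := C.homo F huy hn0 hnV (fun e => hne (mul_left_cancel (mul_right_cancel
      (hny.trans e.symm))))
    exact hmove (hb.le s₀ hs₀)
  -- the quotient by `⟨z⟩`
  let zA : A := ⟨u * u, C.zS.1⟩
  have hzA : zA ∈ center A := mem_center_iff.2 fun a => Subtype.ext (hzc a a.2)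
  let N : Subgroup A := zpowers zA
  have hNc : N ≤ center A := zpowers_le.2 hzA
  haveI : N.Normal := ⟨fun m hm a => by
    rw [mem_center_iff.1 (hNc hm) a, mul_inv_cancel_right]; exact hm⟩
  have hN1 : ∀ w : A, w ∈ N → w = 1 ∨ w = zA := by
    rintro w ⟨i, rfl⟩
    have hsq : zA * zA = 1 := Subtype.ext C.z_sq
    rcases Int.even_or_odd i with ⟨k, rfl⟩ | ⟨k, rfl⟩
    · left; show zA ^ (k + k) = 1
      rw [zpow_add, ← (Commute.refl zA).mul_zpow, hsq, one_zpow]
    · right; show zA ^ (2 * k + 1) = zA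
      rw [zpow_add, zpow_mul, zpow_two, hsq, one_zpow, one_mul, zpow_one]
  set π := QuotientGroup.mk' N
  have hperf' : commutator (A ⧸ N) = ⊤ := by
    rw [_root_.commutator_def, ← Subgroup.map_top_of_surjective π (QuotientGroup.mk'_surjective N),
      ← Subgroup.map_commutator, ← _root_.commutator_def, C.perf]
  -- the odd core of the quotient is central
  have hcore' : Cfsg.pPrimeCore 2 (A ⧸ N) ≤ center (A ⧸ N) := by
    set L := Cfsg.pPrimeCore 2 (A ⧸ N)
    haveI : L.Normal := Cfsg.pPrimeCore_normal 2 _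
    let L0 : Subgroup A := L.comap π
    haveI : L0.Normal := Subgroup.Normal.comap inferInstance π
    let NL : Subgroup L0 := N.subgroupOf L0
    have hNL : N ≤ L0 := fun w hw => by
      show (QuotientGroup.mk w : A ⧸ N) ∈ L
      rw [(QuotientGroup.eq_one_iff w).2 hw]; exact one_mem _
    have hcardN : Nat.card NL ∣ 2 := by
      rw [Nat.card_congr (Subgroup.subgroupOfEquivOfLe hNL).toEquiv, Nat.card_zpowers]
      exact orderOf_dvd_of_pow_eq_one (by rw [pow_two]; exact Subtype.ext C.z_sq)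
    have hidx : NL.index = Nat.card L := by
      have h1 := NL.index_mul_card
      have h2 : Nat.card L0 = Nat.card N * Nat.card L := CfsgLib.PCore.card_comap_mk' N L
      rw [Nat.card_congr (Subgroup.subgroupOfEquivOfLe hNL).toEquiv] at h1
      exact Nat.eq_of_mul_eq_mul_right Nat.card_pos (h1.trans (h2.trans (mul_comm _ _)))
    have hco : (Nat.card NL).Coprime NL.index := by
      rw [hidx]
      exact (CfsgLib.PCore.pPrimeCore_coprime.symm).coprime_dvd_left hcardN
    obtain ⟨K, hK⟩ := Subgroup.exists_right_complement'_of_coprime hco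
    have hNcen : ∀ (n : L0), n ∈ NL → ∀ x : L0, x * n = n * x := fun n hn x =>
      Subtype.ext (mem_center_iff.1 (hNc hn) x)
    have hmulK : ∀ x : L0, ∃ n ∈ NL, ∃ k ∈ K, x = n * k := fun x => by
      obtain ⟨⟨⟨n, hn⟩, ⟨k, hk⟩⟩, e⟩ := hK.2 x
      exact ⟨n, hn, k, hk, e.symm⟩
    haveI : K.Normal := ⟨fun m hm x => by
      obtain ⟨n, hn, k, hk, rfl⟩ := hmulK x
      rw [show n * k * m * (n * k)⁻¹ = n * (k * m * k⁻¹) * n⁻¹ by group, ← hNcen n hn,
        mul_inv_cancel_right]
      exact mul_mem (mul_mem hk hm) (inv_mem hk)⟩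
    have hKc : (Nat.card K).Coprime 2 := by
      rw [← hK.symm.index_eq_card, hidx]
      exact CfsgLib.PCore.pPrimeCore_coprime
    have hKle : K.map L0.subtype ≤ Cfsg.pPrimeCore 2 A := by
      refine (Subgroup.map_mono (CfsgLib.PCore.le_pPrimeCore inferInstance hKc)).trans ?_
      rw [CfsgLib.PCore.map_pPrimeCore_subtype_of_normal]
      exact inf_le_right
    intro q hq
    obtain ⟨a, rfl⟩ := QuotientGroup.mk'_surjective N q
    obtain ⟨n, hn, k, hk, e⟩ := hmulK ⟨a, hq⟩
    have ha : a ∈ center A := by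
      rw [show a = ((n : A) * (k : A)) from congrArg Subtype.val e]
      exact mul_mem (hNc hn) (C.core_le (hKle (Subgroup.mem_map_of_mem _ hk)))
    refine mem_center_iff.2 fun r => ?_
    obtain ⟨b, rfl⟩ := QuotientGroup.mk'_surjective N r
    rw [← map_mul, ← map_mul, mem_center_iff.1 ha b]
  let T : Sylow 2 A := CfsgLib.GammaRankOne.sylowIn A P
  let yA : A := ⟨y, F.mem.1⟩
  have hyN : yA ∉ N := fun h => by
    rcases hN1 _ h with e | e
    · exact F.ne_one (congrArg Subtype.val e)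
    · exact F.ne_z (congrArg Subtype.val e)
  have hy2 : orderOf (π yA) = 2 := by
    refine CfsgLib.Involutions.orderOf_eq_two_iff_mul.2 ⟨fun h => hyN ((QuotientGroup.eq_one_iff _).1 h), ?_⟩
    rw [← map_mul, show yA * yA = 1 from Subtype.ext F.sq, map_one]
  have hiso := central_of_isolated hperf' hcore' (T.mapSurjective (QuotientGroup.mk'_surjective N))
    hy2 (fun r hr => by
      obtain ⟨g, rfl⟩ := QuotientGroup.mk'_surjective N r
      rw [← map_inv, ← map_mul, ← map_mul] at hr ⊢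
      obtain ⟨q, hq, e⟩ := hr
      have hw : q⁻¹ * (g * yA * g⁻¹) ∈ N := QuotientGroup.eq.1 e
      have hgP : (g : H) * y * (g : H)⁻¹ ∈ (P : Subgroup H) := by
        have h : ((q⁻¹ * (g * yA * g⁻¹) : A) : H) ∈ (P : Subgroup H) := by
          rcases hN1 _ hw with e' | e' <;> rw [e']
          · exact one_mem _
          · exact C.zS.2
        have h' := mul_mem (show (q : H) ∈ (P : Subgroup H) from hq) h
        rw [← Subgroup.coe_mul, mul_inv_cancel_left] at h'
        exact h'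
      refine QuotientGroup.eq.2 ?_
      rcases C.V_cases F (C.conj_involution F F.mem F.sq g.2 hgP hinvV) with h | h | h | h
      · exact absurd (conj_eq_one_iff.1 h) F.ne_one
      · refine absurd ?_ F.ne_z
        calc y = (g : H)⁻¹ * (g * y * (g : H)⁻¹) * g := by group
          _ = u * u := by rw [h, mul_assoc, ← hzc _ g.2, inv_mul_cancel_left]
      · rw [show g * yA * g⁻¹ = yA from Subtype.ext h, inv_mul_cancel]
        exact one_mem _
      · rw [show g * yA * g⁻¹ = zA * yA from Subtype.ext h,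
          show (zA * yA)⁻¹ * yA = zA⁻¹ by rw [mul_inv_rev, mul_assoc, ← mem_center_iff.1
            (inv_mem hzA) yA, inv_mul_cancel_left]]
        exact inv_mem (mem_zpowers zA))
  have hyc : yA ∈ center A := central_of_mod_center C.perf fun g => by
    refine hNc ((QuotientGroup.eq_one_iff (N := N) _).1 ?_)
    have h := mem_center_iff.1 hiso (π g)
    show π (g * yA * g⁻¹ * yA⁻¹) = 1
    simp only [map_mul, map_inv]
    rw [h]; group
  exact hmove (congrArg Subtype.val (mem_center_iff.1 hyc ⟨s₀, hs₀.1⟩))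

theorem four_false : False := by
  by_cases huy : u * y = y * u
  swap
  · exact C.eight_false F huy
  by_cases hinvV : ∀ s, Mem A P s → s * s = 1 → s ∈ C.V F
  · by_cases hV : ∀ s, Mem A P s → s * y = y * s
    · exact C.central_inner_false F hV hinvV
    · push Not at hV
      obtain ⟨s, hs, hs'⟩ := hV
      exact C.moved_inner_false F huy hs hs' hinvV
  push Not at hinvV
  obtain ⟨x, hx, hx2, hxV⟩ := hinvV
  obtain ⟨M, D⟩ := C.exists_dat F hx hx2 hxV huy
  by_cases hxy : x * y = y * x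
  swap
  · exact C.moved_false F D hxy
  refine C.central_outer_false F D (fun s hs => ?_) hxV
  obtain ⟨j, v, hv, e | e⟩ := D.gen s hs
  all_goals
    have hvV : v ∈ C.V F := hv
    have hvy : Commute v y := C.S0_V F (C.V_le_S0 F hvV) (C.y_mem_V F)
    have hgy : Commute ((t * x * (t * x)) ^ j) y := (show Commute _ _ from D.gam).zpow_left j
  · rw [e]; exact hgy.mul_left hvy
  · rw [e]; exact ((show Commute x y from hxy).mul_left hgy).mul_left hvy

end Cfg

end CfsgLib.FourCent
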