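import Cfsg.Agent.Lib.FourCent.Cyclic
import Cfsg.Agent.Lib.Components.Basic
import Cfsg.Agent.Lib.PF.OddOrder

/-!
# An involution with cyclic fixed points of order four forces 2-rank one
-/

set_option autoImplicit false
set_option linter.style.haveILetI false

namespace CfsgLib.FourCent

open Subgroup

universe v

variable {H : Type v} [Group H] [Finite H] {A : Subgroup H} {P : Sylow 2 H} {t u : H}

namespace Cfg

variable (C : Cfg A P t u)
include C

/-- Any two commuting involutions of `A` are equal. -/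
theorem oneInv : CfsgLib.GammaRankOne.OneInv A := by
  classical
  haveI := C.normal
  haveI : Fact (Nat.Prime 2) := ⟨Nat.prime_two⟩
  let T : Subgroup (P : Subgroup H) := A.subgroupOf (P : Subgroup H)
  rcases CfsgLib.GammaRankOne.structure_or_four (P.2) T with h | h | h
  · obtain ⟨z, y, hzT, hyT, hzc, hz2, hy2, hz1, hy1, hyz, hconj⟩ := h
    have hz : (z : H) = u * u := by
      refine (C.fix_involution ⟨hzT, z.2⟩ (congrArg Subtype.val hz2) ?_).resolve_left
        fun e => hz1 (Subtype.ext e)
      exact congrArg Subtype.val (mem_center_iff.1 hzc ⟨t, C.tP⟩)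
    exact (C.four_false (y := (y : H)) ⟨⟨hyT, y.2⟩, congrArg Subtype.val hy2, fun e => hy1 (Subtype.ext e),
      fun e => hyz (Subtype.ext (e.trans hz.symm)), fun p hp => (hconj ⟨p, hp⟩).imp
        (fun e => congrArg Subtype.val e)
        (fun e => by rw [← hz]; exact congrArg Subtype.val e)⟩).elim
  · refine CfsgLib.GammaRankOne.oneInv_of_sylow A (CfsgLib.GammaRankOne.sylowIn A P) ?_
    rintro _ ⟨a, ha, rfl⟩ _ ⟨b, hb, rfl⟩ ha2 ha1 hb2 hb1 hab
    let a' : (P : Subgroup H) := ⟨(a : H), ha⟩
    let b' : (P : Subgroup H) := ⟨(b : H), hb⟩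
    have := h a' a.2 b' b.2 (Subtype.ext ha2) (fun e => ha1 (congrArg Subtype.val e))
      (Subtype.ext hb2) (fun e => hb1 (congrArg Subtype.val e)) (Subtype.ext hab.eq)
    show (a : H) = b
    exact congrArg (fun r : (P : Subgroup H) => (r : H)) this
  obtain ⟨k, m, y, c, hord, hmT, hyT, hyn, hn, hy2, hconj, hcc, hgen⟩ := h
  have hD : Cyc A P (m : H) (y : H) k c :=
    { mM := ⟨hmT, m.2⟩
      yM := ⟨hyT, y.2⟩
      ord := by rw [Subgroup.orderOf_coe]; exact hord
      ynot := fun ⟨i, hi⟩ => hyn ⟨i, Subtype.ext (by rw [SubgroupClass.coe_zpow]; exact hi)⟩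
      ysq := congrArg Subtype.val hy2
      conj := by
        have := congrArg Subtype.val hconj
        simpa using this
      cc := hcc
      gen := by
        intro s hs
        rcases hgen ⟨s, hs.2⟩ hs.1 with ⟨i, hi⟩ | ⟨i, hi⟩
        · exact ⟨i, Or.inl (by have := congrArg Subtype.val hi; simpa using this.symm)⟩
        · have hi' : (m : H) ^ i = s * (y : H)⁻¹ := by simpa using congrArg Subtype.val hi
          have hcj : (y : H) * (m : H) * (y : H)⁻¹ = (m : H) ^ c := by
            simpa using congrArg Subtype.val hconj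
          refine ⟨c * i, Or.inr ?_⟩
          rw [← CfsgLib.GammaRankOne.conj_zp hcj, hi', inv_eq_of_mul_eq_one_right (congrArg Subtype.val hy2)]
          have hyy : (y : H) * (y : H) = 1 := congrArg Subtype.val hy2
          calc s = (y : H) * (y : H) * (s * ((y : H) * (y : H))) := by rw [hyy, one_mul, mul_one]
            _ = _ := by group
      norm := by
        intro p hp
        obtain ⟨i, hi⟩ := hn.conj_mem m (mem_zpowers m) ⟨p, hp⟩
        exact ⟨i, by simpa using congrArg Subtype.val hi⟩ }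
  refine (C.cyclic_false hD fun y' F => ?_).elim
  exact C.four_false F

end Cfg

/-- The statement inside a group in which the semisimple subgroup has index two. -/
theorem exists_cfg (A : Subgroup H) [A.Normal] (hidx : A.index = 2) (hperf : commutator A = ⊤)
    (hcore : ∀ L : Subgroup A, L.Normal → Odd (Nat.card L) → L ≤ center A)
    {t : H} (htA : t ∉ A) (ht2 : t * t = 1) {u : H} (huA : u ∈ A) (hu4 : orderOf u = 4)
    (htu : t * u = u * t)
    (hcent : ∀ Q : Subgroup H, Q ≤ A → IsPGroup 2 Q → (∀ q ∈ Q, t * q = q * t) → Nat.card Q ≤ 4) :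
    ∃ P : Sylow 2 H, Cfg A P t u := by
  classical
  haveI : Fact (Nat.Prime 2) := ⟨Nat.prime_two⟩
  let K : Subgroup H := centralizer ({t} : Set H)
  have huK : u ∈ K := mem_centralizer_singleton_iff.2 htu.symm
  have htK : t ∈ K := mem_centralizer_singleton_iff.2 rfl
  have hup : IsPGroup 2 (zpowers (⟨u, huK⟩ : K)) := IsPGroup.of_card (n := 2) (by
    rw [Nat.card_zpowers, Subgroup.orderOf_mk, hu4]; norm_num)
  obtain ⟨R, hR⟩ := hup.exists_le_sylow
  have htR : (⟨t, htK⟩ : K) ∈ (R : Subgroup K) := by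
    have hn : (zpowers (⟨t, htK⟩ : K)).Normal := ⟨fun w hw g => by
      have hcm : Commute g (⟨t, htK⟩ : K) := Subtype.ext (mem_centralizer_singleton_iff.1 g.2)
      obtain ⟨i, rfl⟩ := hw
      show g * (⟨t, htK⟩ : K) ^ i * g⁻¹ ∈ _
      rw [(hcm.zpow_right i).eq, mul_inv_cancel_right]
      exact zpow_mem (mem_zpowers _) i⟩
    have hp : IsPGroup 2 (zpowers (⟨t, htK⟩ : K)) :=
      CfsgLib.Involutions.isPGroup_two_zpowers (CfsgLib.Involutions.orderOf_eq_two_iff_mul.2
        ⟨fun e => htA (by rw [show t = 1 from congrArg Subtype.val e]; exact one_mem A), Subtype.ext ht2⟩)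
    exact (CfsgLib.PCore.le_pCore hn hp).trans (CfsgLib.PCore.pCore_le_sylow R) (mem_zpowers _)
  obtain ⟨P, hP⟩ := (R.2.map K.subtype).exists_le_sylow
  have huP : u ∈ (P : Subgroup H) := hP ⟨⟨u, huK⟩, hR (mem_zpowers _), rfl⟩
  have htP : t ∈ (P : Subgroup H) := hP ⟨⟨t, htK⟩, htR, rfl⟩
  refine ⟨P, ⟨inferInstance, hidx, htP, htA, ht2, huP, huA, hu4, htu, fun s hsA hsP hs => ?_, hcent,
    hperf, hcore⟩⟩
  let Q : Subgroup H := A ⊓ (P : Subgroup H) ⊓ K
  have hQ : Nat.card Q ≤ 4 := hcent Q (inf_le_left.trans inf_le_left)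
    (P.2.to_le (inf_le_left.trans inf_le_right))
    fun q hq => (mem_centralizer_singleton_iff.1 hq.2).symm
  have hle : zpowers u ≤ Q := zpowers_le.2 ⟨⟨huA, huP⟩, huK⟩
  rw [eq_of_le_of_card_ge hle (by rw [Nat.card_zpowers, hu4]; exact hQ)]
  exact ⟨⟨hsA, hsP⟩, mem_centralizer_singleton_iff.2 hs.symm⟩

/-- The odd normal subgroups of a semisimple group are central. -/
theorem core_of_layer {K : Type v} [Group K] [Finite K] (hK : Cfsg.layer K = ⊤)
    (L : Subgroup K) (hL : L.Normal) (hodd : Odd (Nat.card L)) : L ≤ center K := by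
  haveI := hL
  haveI : Group.IsSolvable L := CfsgLib.PF.oddSolvable L hodd
  have h := CfsgLib.Components.commutator_layer_solvable (G := K) L
  rw [hK] at h
  intro x hx
  rw [mem_center_iff]
  intro g
  exact CfsgLib.Components.commute_of_commutator_eq_bot h (mem_top g) hx

theorem perfect_of_layer {K : Type v} [Group K] (hK : Cfsg.layer K = ⊤) : commutator K = ⊤ := by
  have h := CfsgLib.Components.commutator_layer_self (G := K)
  rw [hK] at h
  rw [_root_.commutator_def]; exact h

end CfsgLib.FourCent
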