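import Cfsg.Agent.Lib.FourCent.Conj

/-!
# The four-group `V` and the consequences of an element moving `z` in `V`

If some element of `A` normalising `V` and `C_S(V)` moves `z`, then `A ∩ P` is homocyclic of
order 16.
-/

set_option autoImplicit false
set_option linter.style.haveILetI false

namespace CfsgLib.FourCent

open Subgroup

variable {H : Type*} [Group H] [Finite H] {A : Subgroup H} {P : Sylow 2 H} {t u : H}

/-- A normal four-group `⟨u², y⟩` of `P` inside `A`. -/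
structure Four (A : Subgroup H) (P : Sylow 2 H) (u y : H) : Prop where
  mem : Cfg.Mem A P y
  sq : y * y = 1
  ne_one : y ≠ 1
  ne_z : y ≠ u * u
  conj : ∀ p ∈ (P : Subgroup H), p * y * p⁻¹ = y ∨ p * y * p⁻¹ = u * u * y

/-- The centralizer of `y` in `A ∩ P`. -/
def S0 (A : Subgroup H) (P : Sylow 2 H) (y : H) : Subgroup H :=
  A ⊓ (P : Subgroup H) ⊓ centralizer ({y} : Set H)

namespace Cfg

variable (C : Cfg A P t u) {y : H} (F : Four A P u y)
include C F

theorem y_z : y * (u * u) = u * u * y := C.z_comm F.mem.2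

theorem zy_sq : u * u * y * (u * u * y) = 1 := by
  calc u * u * y * (u * u * y) = u * u * (y * (u * u)) * y := by group
    _ = u * u * (u * u) * (y * y) := by rw [C.y_z F]; group
    _ = 1 := by rw [C.z_sq, F.sq, mul_one]

/-- The four-group. -/
def V : Subgroup H where
  carrier := {1, u * u, y, u * u * y}
  one_mem' := Or.inl rfl
  mul_mem' := by
    have h := C.y_z F
    have hz := C.z_sq
    rintro a b (rfl | rfl | rfl | rfl) (rfl | rfl | rfl | rfl)
    all_goals simp only [Set.mem_insert_iff, Set.mem_singleton_iff, one_mul, mul_one, true_or, or_true]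
    · exact Or.inl hz
    · refine Or.inr (Or.inr (Or.inl ?_))
      rw [← mul_assoc, hz, one_mul]
    · exact Or.inr (Or.inr (Or.inr h))
    · exact Or.inl F.sq
    · refine Or.inr (Or.inl ?_)
      rw [← mul_assoc, h, mul_assoc, F.sq, mul_one]
    · refine Or.inr (Or.inr (Or.inl ?_))
      rw [mul_assoc, h, ← mul_assoc, hz, one_mul]
    · refine Or.inr (Or.inl ?_)
      rw [mul_assoc, F.sq, mul_one]
    · exact Or.inl (C.zy_sq F)
  inv_mem' := by
    rintro a (rfl | rfl | rfl | rfl)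
    · exact Or.inl inv_one
    · exact Or.inr (Or.inl C.z_inv)
    · exact Or.inr (Or.inr (Or.inl (inv_eq_of_mul_eq_one_right F.sq)))
    · exact Or.inr (Or.inr (Or.inr (inv_eq_of_mul_eq_one_right (C.zy_sq F))))

theorem V_cases {w : H} (h : w ∈ C.V F) : w = 1 ∨ w = u * u ∨ w = y ∨ w = u * u * y := h

theorem z_mem_V : u * u ∈ C.V F := Or.inr (Or.inl rfl)

theorem y_mem_V : y ∈ C.V F := Or.inr (Or.inr (Or.inl rfl))

theorem V_sq {w : H} (h : w ∈ C.V F) : w * w = 1 := by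
  rcases C.V_cases F h with rfl | rfl | rfl | rfl
  · exact mul_one 1
  · exact C.z_sq
  · exact F.sq
  · exact C.zy_sq F

theorem V_le : C.V F ≤ A ⊓ (P : Subgroup H) := by
  intro w h
  rcases C.V_cases F h with e | e | e | e <;> rw [e]
  · exact one_mem _
  · exact C.zS
  · exact F.mem
  · exact mul_mem C.zS F.mem

theorem V_conj {p w : H} (hp : p ∈ (P : Subgroup H)) (h : w ∈ C.V F) : p * w * p⁻¹ ∈ C.V F := by
  have hz : p * (u * u) * p⁻¹ = u * u := by rw [C.z_comm hp, mul_inv_cancel_right]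
  have hy : p * y * p⁻¹ ∈ C.V F := by
    rcases F.conj p hp with e | e <;> rw [e]
    · exact C.y_mem_V F
    · exact mul_mem (C.z_mem_V F) (C.y_mem_V F)
  rcases C.V_cases F h with e | e | e | e <;> rw [e]
  · simp
  · rw [hz]; exact C.z_mem_V F
  · exact hy
  · rw [show p * (u * u * y) * p⁻¹ = p * (u * u) * p⁻¹ * (p * y * p⁻¹) by group, hz]
    exact mul_mem (C.z_mem_V F) hy

theorem V_tconj {w : H} (h : w ∈ C.V F) : t * w * t ∈ C.V F := by
  rw [C.conj_t]; exact C.V_conj F C.tP h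

theorem t_y : t * y * t = u * u * y := by
  refine ((F.conj t C.tP).resolve_left fun e => ?_).symm.trans (C.conj_t y).symm |>.symm
  rw [← C.conj_t] at e
  rcases C.fix_involution F.mem F.sq (C.commute_of_tconj_eq e) with e' | e'
  · exact F.ne_one e'
  · exact F.ne_z e'

theorem t_zy : t * (u * u * y) * t = y := by
  rw [C.tconj_mul, C.tconj_eq_of_commute C.t_z, C.t_y F, ← mul_assoc, C.z_sq, one_mul]

/-- Elements fixed by `t` modulo `V`. -/
theorem fix_mod {s : H} (hs : Mem A P s) (h : s⁻¹ * (t * s * t) ∈ C.V F) :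
    s ∈ C.V F ∨ ∃ v ∈ C.V F, s = u * v := by
  have fin : ∀ a, a ∈ zpowers u → ∀ v ∈ C.V F, s = a * v → s ∈ C.V F ∨ ∃ w ∈ C.V F, s = u * w := by
    intro a ha v hv e
    rcases C.u_cases ha with rfl | rfl | rfl | rfl
    · exact Or.inl (by rw [e, one_mul]; exact hv)
    · exact Or.inr ⟨v, hv, e⟩
    · exact Or.inl (e ▸ mul_mem (C.z_mem_V F) hv)
    · exact Or.inr ⟨u * u * v, mul_mem (C.z_mem_V F) hv, by rw [e]; group⟩
  obtain ⟨w, hw⟩ : ∃ w, w = s⁻¹ * (t * s * t) := ⟨_, rfl⟩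
  have htw : t * s * t = s * w := by rw [hw]; group
  rw [← hw] at h
  have bad : w * (t * w * t) ≠ u * u := by
    intro e
    have h1 : s = s * (u * u) := by
      calc s = t * (t * s * t) * t := (C.tconj_tconj s).symm
        _ = t * s * t * (t * w * t) := by rw [htw, C.tconj_mul, htw]
        _ = s * (w * (t * w * t)) := by rw [htw, mul_assoc]
        _ = _ := by rw [e]
    exact C.z_ne_one (mul_eq_left.1 h1.symm)
  rcases C.V_cases F h with e | e | e | e
  · exact fin s (C.fix s hs.1 hs.2 (C.commute_of_tconj_eq (by rw [htw, e, mul_one]))) 1 (one_mem _)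
      (mul_one s).symm
  · refine fin (s * y) (C.fix _ (mul_mem hs.1 F.mem.1) (mul_mem hs.2 F.mem.2)
      (C.commute_of_tconj_eq ?_)) y (C.y_mem_V F) (by rw [mul_assoc, F.sq, mul_one])
    rw [C.tconj_mul, htw, C.t_y F, e, mul_assoc, ← mul_assoc (u * u) (u * u), C.z_sq, one_mul]
  · refine absurd ?_ bad
    rw [e, C.t_y F, ← mul_assoc, C.y_z F, mul_assoc, F.sq, mul_one]
  · refine absurd ?_ bad
    rw [e, C.t_zy F, mul_assoc, F.sq, mul_one]

theorem mem_S0 {s : H} : s ∈ S0 A P y ↔ Mem A P s ∧ s * y = y * s :=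
  ⟨fun h => ⟨h.1, mem_centralizer_singleton_iff.1 h.2⟩,
    fun h => ⟨h.1, mem_centralizer_singleton_iff.2 h.2⟩⟩

theorem S0_V {s w : H} (hs : s ∈ S0 A P y) (hw : w ∈ C.V F) : s * w = w * s := by
  obtain ⟨h1, h2⟩ := (C.mem_S0 F).1 hs
  have hz := C.z_comm (P := P) h1.2
  rcases C.V_cases F hw with rfl | rfl | rfl | rfl
  · simp
  · exact hz
  · exact h2
  · rw [← mul_assoc, hz, mul_assoc, h2, ← mul_assoc]

theorem V_le_S0 : C.V F ≤ S0 A P y := by
  intro w hw
  refine (C.mem_S0 F).2 ⟨C.V_le F hw, ?_⟩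
  rcases C.V_cases F hw with rfl | rfl | rfl | rfl
  · simp
  · exact (C.y_z F).symm
  · rfl
  · rw [← mul_assoc y, C.y_z F]

theorem S0_conj {p s : H} (hp : p ∈ (P : Subgroup H)) (hs : s ∈ S0 A P y) :
    p * s * p⁻¹ ∈ S0 A P y := by
  refine (C.mem_S0 F).2 ⟨C.conj_mem hs.1 hp, ?_⟩
  have h := C.S0_V F hs (C.V_conj F (inv_mem hp) (C.y_mem_V F))
  rw [inv_inv] at h
  calc p * s * p⁻¹ * y = p * (s * (p⁻¹ * y * p)) * p⁻¹ := by group
    _ = p * ((p⁻¹ * y * p) * s) * p⁻¹ := by rw [h]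
    _ = _ := by group

/-- `V` together with its translates by `u`. -/
theorem uV_sq (huy : u * y = y * u) {v : H} (hv : v ∈ C.V F) : u * v * (u * v) = u * u := by
  have hu : u * v = v * u := C.S0_V F ((C.mem_S0 F).2 ⟨C.uS, huy⟩) hv
  calc u * v * (u * v) = u * (v * u) * v := by group
    _ = u * u * (v * v) := by rw [← hu]; group
    _ = u * u := by rw [C.V_sq F hv, mul_one]

theorem u_not_mem_V : u ∉ C.V F := fun h => C.z_ne_one (C.V_sq F h)

/-- The elements of `C_S(V)` of order two modulo `V` and central modulo `V`. -/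
def E : Subgroup H where
  carrier := {s | s ∈ S0 A P y ∧ s * s ∈ C.V F ∧ ∀ p ∈ S0 A P y, s * p * s⁻¹ * p⁻¹ ∈ C.V F}
  one_mem' := ⟨one_mem _, by simp, fun p _ => by simp⟩
  mul_mem' := by
    rintro a b ⟨ha, ha2, hap⟩ ⟨hb, hb2, hbp⟩
    refine ⟨mul_mem ha hb, ?_, fun p hp => ?_⟩
    · have h1 := hbp a ha
      have e : a * b * (a * b) = a * ((b * a * b⁻¹ * a⁻¹) * a) * (b * b) := by group
      rw [e, ← C.S0_V F ha h1, ← mul_assoc a a]
      exact mul_mem (mul_mem ha2 h1) hb2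
    · have h1 := hbp p hp
      have e : a * b * p * (a * b)⁻¹ * p⁻¹ =
          a * (b * p * b⁻¹ * p⁻¹) * (p * a⁻¹ * p⁻¹) := by group
      rw [e, C.S0_V F ha h1, mul_assoc]
      refine mul_mem h1 ?_
      rw [show a * (p * a⁻¹ * p⁻¹) = a * p * a⁻¹ * p⁻¹ by group]
      exact hap p hp
  inv_mem' := by
    rintro a ⟨ha, ha2, hap⟩
    refine ⟨inv_mem ha, ?_, fun p hp => ?_⟩
    · rw [← mul_inv_rev]; exact inv_mem ha2
    · have h1 := inv_mem (hap p hp)
      have e : a⁻¹ * p * a⁻¹⁻¹ * p⁻¹ = a⁻¹ * (a * p * a⁻¹ * p⁻¹)⁻¹ * a := by group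
      rw [e, mul_assoc, ← C.S0_V F ha h1, ← mul_assoc, inv_mul_cancel, one_mul]
      exact h1

theorem V_le_E : C.V F ≤ C.E F := fun w hw => ⟨C.V_le_S0 F hw, by rw [C.V_sq F hw]; exact one_mem _,
  fun p hp => by rw [← C.S0_V F hp hw]; simp⟩

theorem E_conj {p s : H} (hp : p ∈ (P : Subgroup H)) (hs : s ∈ C.E F) : p * s * p⁻¹ ∈ C.E F := by
  obtain ⟨h0, h2, h3⟩ := hs
  refine ⟨C.S0_conj F hp h0, ?_, fun q hq => ?_⟩
  · rw [show p * s * p⁻¹ * (p * s * p⁻¹) = p * (s * s) * p⁻¹ by group]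
    exact C.V_conj F hp h2
  · have h := C.V_conj F hp (h3 _ (C.S0_conj F (inv_mem hp) hq))
    rw [inv_inv] at h
    rwa [show p * s * p⁻¹ * q * (p * s * p⁻¹)⁻¹ * q⁻¹ =
      p * (s * (p⁻¹ * q * p) * s⁻¹ * (p⁻¹ * q * p)⁻¹) * p⁻¹ by group]

theorem E_tconj {s : H} (hs : s ∈ C.E F) : t * s * t ∈ C.E F := by
  rw [C.conj_t]; exact C.E_conj F C.tP hs

theorem exists_E_notMem (huy : u * y = y * u) : ∃ s ∈ C.E F, s ∉ C.V F := by
  classical
  haveI : Fact (Nat.Prime 2) := ⟨Nat.prime_two⟩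
  let T := S0 A P y
  haveI : ((C.V F).subgroupOf T).Normal := ⟨fun w hw g => C.V_conj F g.2.1.2 hw⟩
  have hp : IsPGroup 2 (T ⧸ (C.V F).subgroupOf T) :=
    (P.2.to_le (show T ≤ (P : Subgroup H) from fun s hs => hs.1.2)).to_quotient _
  haveI : Nontrivial (T ⧸ (C.V F).subgroupOf T) :=
    ⟨⟨QuotientGroup.mk ⟨u, (C.mem_S0 F).2 ⟨C.uS, huy⟩⟩, 1, fun e =>
      C.u_not_mem_V F ((QuotientGroup.eq_one_iff (N := (C.V F).subgroupOf T) _).1 e : _)⟩⟩
  haveI := hp.center_nontrivial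
  have hd : 2 ∣ Nat.card (center (T ⧸ (C.V F).subgroupOf T)) := by
    obtain ⟨k, hk⟩ := (hp.to_subgroup (center _)).exists_card_eq
    rcases k with _ | k
    · have := Finite.one_lt_card (α := center (T ⧸ (C.V F).subgroupOf T))
      omega
    · exact hk ▸ dvd_pow_self 2 (by omega)
  obtain ⟨⟨c, hc⟩, hc2⟩ := exists_prime_orderOf_dvd_card' 2 hd
  obtain ⟨s, rfl⟩ := QuotientGroup.mk_surjective c
  refine ⟨s, ⟨s.2, ?_, fun p hp' => ?_⟩, fun h => ?_⟩
  · have h := pow_orderOf_eq_one (⟨QuotientGroup.mk s, hc⟩ : center (T ⧸ (C.V F).subgroupOf T))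
    rw [hc2, pow_two] at h
    exact (QuotientGroup.eq_one_iff (s * s)).1 (congrArg Subtype.val h)
  · have h := mem_center_iff.1 hc (QuotientGroup.mk ⟨p, hp'⟩)
    have h' : QuotientGroup.mk' ((C.V F).subgroupOf T) (s * ⟨p, hp'⟩ * s⁻¹ * ⟨p, hp'⟩⁻¹) = 1 := by
      simp only [map_mul, map_inv, QuotientGroup.mk'_apply]
      rw [← h]; group
    exact ((QuotientGroup.eq_one_iff (N := (C.V F).subgroupOf T) _).1 h' : _)
  · have h1 : (⟨QuotientGroup.mk s, hc⟩ : center (T ⧸ (C.V F).subgroupOf T)) = 1 :=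
      Subtype.ext ((QuotientGroup.eq_one_iff s).2 h)
    rw [h1, orderOf_one] at hc2
    omega

theorem u_mem_E (huy : u * y = y * u) : u ∈ C.E F := by
  by_contra hu
  obtain ⟨s₀, hs₀, hs₀V⟩ := C.exists_E_notMem F huy
  refine hs₀V (le_of_eq (eq_of_fixed (P.2.to_le (show C.E F ≤ (P : Subgroup H) from fun s hs => hs.1.1.2)) (C.V_le_E F)
    (fun s hs w hw => C.V_conj F hs.1.1.2 hw) C.t2 (fun s hs => C.E_tconj F hs)
    (fun w hw => C.V_tconj F hw) fun s hs hf => ?_) hs₀)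
  rcases C.fix_mod F hs.1.1 hf with h | ⟨v, hv, e⟩
  · exact h
  · refine absurd ?_ hu
    have := mul_mem hs (inv_mem (C.V_le_E F hv))
    rwa [e, mul_inv_cancel_right] at this

end Cfg

end CfsgLib.FourCent
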