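import Cfsg.Agent.Lib.FourCent.Dihedral
import Cfsg.Agent.Lib.FourCent.Homocyclic
import Cfsg.Agent.Lib.FourCent.Eight
import Cfsg.Agent.Lib.CentralTwo.Basic

/-!
# The cases with an involution of `A ∩ P` outside `V`
-/

set_option autoImplicit false
set_option linter.style.haveILetI false

namespace CfsgLib.FourCent

open Subgroup

variable {H : Type*} [Group H] [Finite H] {A : Subgroup H} {P : Sylow 2 H} {t u : H}

/-- `z`, `y` and `z y` are pairwise not conjugate in `A`. -/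
def PW (A : Subgroup H) (u y : H) : Prop :=
  ∀ a ∈ A, a * (u * u) * a⁻¹ ≠ y ∧ a * (u * u) * a⁻¹ ≠ u * u * y ∧ a * y * a⁻¹ ≠ u * u * y

namespace Cfg

variable (C : Cfg A P t u) {y : H} (F : Four A P u y)
include C F

theorem center_involutions {e : H} (he : Mem A P e) (he2 : e * e = 1)
    (hec : ∀ s, Mem A P s → s * e = e * s) : e ∈ C.V F := by
  have ht2 : t * e * t * (t * e * t) = 1 := by
    rw [← C.tconj_mul, he2, mul_one, C.t2]
  have hcm : t * e * t * e = e * (t * e * t) := (hec _ (C.tS he))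
  have hfix : t * (e * (t * e * t)) * t = e * (t * e * t) := by
    rw [C.tconj_mul, C.tconj_tconj, hcm]
  rcases C.fix_involution (mul_mem he (C.tS he)) (by
      calc e * (t * e * t) * (e * (t * e * t)) = e * (t * e * t * e) * (t * e * t) := by group
        _ = e * e * (t * e * t * (t * e * t)) := by rw [hcm]; group
        _ = 1 := by rw [he2, ht2, mul_one]) (C.commute_of_tconj_eq hfix) with h | h
  · have hte : t * e * t = e := by
      rw [eq_inv_of_mul_eq_one_right h]; exact inv_eq_of_mul_eq_one_right he2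
    rcases C.fix_involution he he2 (C.commute_of_tconj_eq hte) with e' | e'
    · rw [e']; exact one_mem _
    · rw [e']; exact C.z_mem_V F
  · have hte : t * e * t = e * (u * u) := by rw [← h, ← mul_assoc, he2, one_mul]
    have hey : y * e = e * y := hec y F.mem
    rcases C.fix_involution (mul_mem he F.mem) (by
      calc e * y * (e * y) = e * (y * e) * y := by group
        _ = e * e * (y * y) := by rw [hey]; group
        _ = 1 := by rw [he2, F.sq, mul_one])
      (C.commute_of_tconj_eq (by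
        rw [C.tconj_mul, hte, C.t_y F, mul_assoc, ← mul_assoc (u * u) (u * u), C.z_sq, one_mul]))
      with e' | e'
    · have : e = y := by rw [eq_inv_of_mul_eq_one_left e']; exact inv_eq_of_mul_eq_one_right F.sq
      rw [this]; exact C.y_mem_V F
    · have : e = u * u * y := by rw [← e', mul_assoc, F.sq, mul_one]
      rw [this]; exact mul_mem (C.z_mem_V F) (C.y_mem_V F)

/-- If `V` is central in `A ∩ P`: either `A ∩ P` is homocyclic or `z`, `y`, `z y` are not fused. -/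
theorem homo_or_pw (hV : ∀ s, Mem A P s → s * y = y * s) :
    (∃ b, Homo A P u y b) ∨ PW A u y := by
  classical
  haveI : Fact (Nat.Prime 2) := ⟨Nat.prime_two⟩
  haveI := C.normal
  have huy : u * y = y * u := hV u C.uS
  by_cases hh : ∃ b, Homo A P u y b
  · exact Or.inl hh
  have hzy : ∀ s, Mem A P s → s * (u * u * y) = u * u * y * s := fun s hs => by
    rw [← mul_assoc, C.z_comm hs.2, mul_assoc, hV s hs, ← mul_assoc]
  let T : Sylow 2 A := CfsgLib.GammaRankOne.sylowIn A P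
  have key : ∀ (a : H), a ∈ A → ∀ w w' : H, Mem A P w → Mem A P w' →
      (∀ s, Mem A P s → s * w = w * s) → (∀ s, Mem A P s → s * w' = w' * s) → a * w * a⁻¹ = w' →
      ∃ n, n ∈ A ∧ (∀ s, Mem A P s → Mem A P (n * s * n⁻¹)) ∧
        (∀ v ∈ C.V F, n * v * n⁻¹ ∈ C.V F) ∧ n * w * n⁻¹ = w' ∧ n * (u * u) * n⁻¹ = u * u := by
    intro a ha w w' hw hw' hwc hwc' haw
    obtain ⟨c, hc, hn⟩ := CfsgLib.Transfer.exists_normalizer_of_image_eq T
      ({⟨w, hw.1⟩} : Set A) {⟨w', hw'.1⟩}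
      (fun s hs => by
        rw [Set.image_singleton, Set.singleton_eq_singleton_iff]
        exact Subtype.ext (show (s : H) * w * (s : H)⁻¹ = w by
          rw [hwc _ ⟨s.2, hs⟩, mul_inv_cancel_right]))
      (fun s hs => by
        rw [Set.image_singleton, Set.singleton_eq_singleton_iff]
        exact Subtype.ext (show (s : H) * w' * (s : H)⁻¹ = w' by
          rw [hwc' _ ⟨s.2, hs⟩, mul_inv_cancel_right]))
      ⟨a, ha⟩ (by rw [Set.image_singleton, Set.singleton_eq_singleton_iff]; exact Subtype.ext haw)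
    rw [Set.image_singleton, Set.singleton_eq_singleton_iff] at hc
    have hcw : (c : H) * w * (c : H)⁻¹ = w := congrArg Subtype.val hc
    have hnS : ∀ s, Mem A P s → Mem A P (a * (c : H) * s * (a * (c : H))⁻¹) := fun s hs => by
      refine ⟨C.normal.conj_mem s hs.1 _, ?_⟩
      exact (Subgroup.mem_normalizer_iff.1 hn ⟨s, hs.1⟩).1 hs.2
    have hnV : ∀ v ∈ C.V F, a * (c : H) * v * (a * (c : H))⁻¹ ∈ C.V F := by
      intro v hv
      refine C.center_involutions F (hnS v (C.V_le F hv)) ?_ ?_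
      · rw [show a * (c : H) * v * (a * c)⁻¹ * (a * c * v * (a * c)⁻¹) =
          a * c * (v * v) * (a * c)⁻¹ by group, C.V_sq F hv]
        group
      · intro s hs
        let T0 : Subgroup H := A ⊓ (P : Subgroup H)
        have h0 : Mem A P ((a * (c : H))⁻¹ * s * (a * c)) :=
          inv_conj_closed (X := T0) (fun q hq => hnS q hq) s hs
        have hcomm : (a * (c : H))⁻¹ * s * (a * c) * v = v * ((a * (c : H))⁻¹ * s * (a * c)) :=
          C.S0_V F ((C.mem_S0 F).2 ⟨h0, hV _ h0⟩) hv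
        calc s * (a * c * v * (a * c)⁻¹) = a * c * ((a * c)⁻¹ * s * (a * c) * v) * (a * c)⁻¹ := by group
          _ = _ := by rw [hcomm]; group
    refine ⟨a * c, mul_mem ha c.2, hnS, hnV, ?_, ?_⟩
    · rw [show a * (c : H) * w * (a * c)⁻¹ = a * (c * w * (c : H)⁻¹) * a⁻¹ by group, hcw, haw]
    by_contra hnz
    refine hh (C.homo F huy (fun s hs => ?_) hnV hnz)
    exact (C.mem_S0 F).2 ⟨hnS s hs.1, hV _ (hnS s hs.1)⟩
  refine Or.inr fun a ha => ⟨fun h => ?_, fun h => ?_, fun h => ?_⟩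
  · obtain ⟨n, -, -, -, h1, h2⟩ := key a ha _ _ C.zS F.mem (fun s hs => C.z_comm hs.2) hV h
    exact F.ne_z (h1.symm.trans h2)
  · obtain ⟨n, -, -, -, h1, h2⟩ := key a ha _ _ C.zS (mul_mem C.zS F.mem) (fun s hs => C.z_comm hs.2) hzy h
    exact F.ne_one (mul_eq_left.1 (h1.symm.trans h2))
  · obtain ⟨n, hnA, hnS, -, h1, h2⟩ := key a ha _ _ F.mem (mul_mem C.zS F.mem) hV hzy h
    obtain ⟨k, o, ho, hko⟩ := Nat.exists_eq_two_pow_mul_odd (orderOf_pos n).ne'
    obtain ⟨i, rfl⟩ := ho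
    have hstep : n * (u * u * y) * n⁻¹ = y := by
      rw [show n * (u * u * y) * n⁻¹ = n * (u * u) * n⁻¹ * (n * y * n⁻¹) by group, h2, h1,
        ← mul_assoc, C.z_sq, one_mul]
    have hodd : ∀ i : ℕ, n ^ (2 * i + 1) * y * (n ^ (2 * i + 1))⁻¹ = u * u * y := by
      intro i
      induction i with
      | zero => simpa using h1
      | succ i ih =>
        rw [show 2 * (i + 1) + 1 = (2 * i + 1) + 2 by ring, pow_add, add_comm, pow_succ' n 1, pow_one,
          show n ^ (1 + 2 * i) * (n * n) * y * (n ^ (1 + 2 * i) * (n * n))⁻¹ =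
            n ^ (1 + 2 * i) * (n * (n * y * n⁻¹) * n⁻¹) * (n ^ (1 + 2 * i))⁻¹ by group, h1, hstep,
          add_comm]
        exact ih
    let m : A := ⟨n ^ (2 * i + 1), pow_mem hnA _⟩
    have hm : m ∈ (T : Subgroup A) := by
      obtain ⟨j, -, hj⟩ := (Nat.dvd_prime_pow Nat.prime_two).1 (show orderOf m ∣ 2 ^ k by
        refine orderOf_dvd_of_pow_eq_one (Subtype.ext ?_)
        show (n ^ (2 * i + 1)) ^ 2 ^ k = 1
        rw [← pow_mul, mul_comm, ← hko, pow_orderOf_eq_one])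
      refine CfsgLib.CentralTwo.mem_sylow_of_mem_normalizer T ?_ (k := j) hj
      refine Subgroup.mem_normalizer_iff.2 fun b => ?_
      let T0 : Subgroup H := A ⊓ (P : Subgroup H)
      constructor
      · intro hb
        exact ((conj_pow_closed (X := T0) (fun q hq => hnS q hq) (2 * i + 1) b ⟨b.2, hb⟩).2)
      · intro hb
        have h := (inv_conj_closed (X := T0)
          (fun q hq => conj_pow_closed (X := T0) (fun q hq => hnS q hq) (2 * i + 1) q hq) _
          (show n ^ (2 * i + 1) * (b : H) * (n ^ (2 * i + 1))⁻¹ ∈ T0 from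
            ⟨C.normal.conj_mem _ b.2 _, hb⟩)).2
        rwa [show (n ^ (2 * i + 1))⁻¹ * (n ^ (2 * i + 1) * (b : H) * (n ^ (2 * i + 1))⁻¹) *
          n ^ (2 * i + 1) = b by group] at h
    have := hV _ (show Mem A P (n ^ (2 * i + 1)) from ⟨pow_mem hnA _, hm⟩)
    have h3 := hodd i
    rw [this, mul_inv_cancel_right] at h3
    exact C.z_ne_one (mul_eq_right.1 h3.symm)

variable {x : H} {M : ℕ}

omit [Finite H] F in
theorem dat_facts (D : Dat A P t u y x M) :
    x * (t * x * (t * x)) * x⁻¹ = (t * x * (t * x))⁻¹ ∧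
      (∀ j : ℤ, (t * x * (t * x)) ^ j * (t * x * (t * x)) ^ j = 1 →
        (t * x * (t * x)) ^ j = 1 ∨ (t * x * (t * x)) ^ j = u * u) ∧
      (t * x * (t * x)) ^ (M : ℤ) = u * u := by
  have hxi : x⁻¹ = x := inv_eq_of_mul_eq_one_right D.sq
  have hz : (t * x * (t * x)) ^ (M : ℤ) = u * u := by
    rw [zpow_natCast, ← pow_two, ← pow_mul, D.top]
  refine ⟨?_, fun j hj => ?_, hz⟩
  · rw [mul_inv_rev, mul_inv_rev, hxi, C.t_inv]
    calc x * (t * x * (t * x)) * x = x * t * x * t * (x * x) := by group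
      _ = _ := by rw [D.sq]; group
  · rw [← zpow_add, ← zpow_two, ← zpow_mul, ← orderOf_dvd_iff_zpow_eq_one, D.ord] at hj
    obtain ⟨l, hl⟩ := hj
    have e : j = (M : ℤ) * l := by push_cast at hl; linarith
    rw [e, zpow_mul, hz]
    rcases Int.even_or_odd l with ⟨k, hk⟩ | ⟨k, hk⟩
    · left; rw [hk, zpow_add, ← (Commute.refl _).mul_zpow, C.z_sq, one_zpow]
    · right; rw [hk, zpow_add, zpow_mul, zpow_two, C.z_sq, one_zpow, one_mul, zpow_one]

theorem moved_false (D : Dat A P t u y x M) (hxy : x * y ≠ y * x) : False := by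
  obtain ⟨c, hc⟩ : ∃ c, c = t * x := ⟨_, rfl⟩
  obtain ⟨hxg, hginv, hgM⟩ := C.dat_facts D
  have hgam := D.gam
  have hgen := D.gen
  rw [← hc] at hxg hginv hgM hgam hgen
  have hcP : c ∈ (P : Subgroup H) := hc ▸ mul_mem C.tP D.mem.2
  have hxi : x⁻¹ = x := inv_eq_of_mul_eq_one_right D.sq
  have hxyx : x * y * x = u * u * y := by
    have := (F.conj x D.mem.2).resolve_left fun e => hxy (mul_inv_eq_iff_eq_mul.1 e)
    rwa [hxi] at this
  have hgy : ∀ j : ℤ, (c * c) ^ j * y = y * (c * c) ^ j := fun j =>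
    ((show Commute (c * c) y from hgam).zpow_left j).eq
  have heg : x * y * (c * c) * (x * y)⁻¹ = (c * c)⁻¹ := by
    rw [show x * y * (c * c) * (x * y)⁻¹ = x * (y * (c * c) * y⁻¹) * x⁻¹ by group, ← hgam,
      mul_inv_cancel_right, hxg]
  have he2 : x * y * (x * y) = u * u := by
    rw [show x * y * (x * y) = x * y * x * y by group, hxyx, mul_assoc, F.sq, mul_one]
  let Md := dih (c * c) (x * y) heg (mem_zpowers_iff.2 ⟨M, hgM.trans he2.symm⟩)
  have heinv : ∀ j : ℤ, x * y * (c * c) ^ j * (x * y * (c * c) ^ j) = u * u := by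
    intro j
    rw [show x * y * (c * c) ^ j * (x * y * (c * c) ^ j) = x * y * ((c * c) ^ j * (x * y)) * (c * c) ^ j by
      group, conj_zpow_inv heg, zpow_neg, ← mul_assoc, he2, inv_mul_cancel_right]
  have hyM : y ∉ Md := by
    rintro ⟨j, e | e⟩
    · rcases hginv j (e ▸ F.sq) with h | h
      · exact F.ne_one (e.trans h)
      · exact F.ne_z (e.trans h)
    · have := heinv j
      rw [← e, F.sq] at this
      exact C.z_ne_one this.symm
  have hMg : ∀ j : ℤ, (c * c) ^ j * (u * u) = (c * c) ^ (j + M) := fun j => by rw [zpow_add, hgM]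
  have hyy : ∀ w : H, w * y * y = w := fun w => by rw [mul_assoc, F.sq, mul_one]
  obtain ⟨a, ha, haM, haS⟩ := C.transfer_into Md F.mem hyM (fun s hs => by
    obtain ⟨j, v, hv, e | e⟩ := hgen s hs <;> rcases hv with rfl | rfl | rfl | rfl <;> rw [e]
    · exact Or.inl ⟨j, Or.inl (mul_one _)⟩
    · exact Or.inl ⟨j + M, Or.inl (hMg j)⟩
    · exact Or.inr ⟨j, Or.inl (hyy _)⟩
    · exact Or.inr ⟨j + M, Or.inl (by rw [← mul_assoc, hyy, hMg])⟩
    · exact Or.inr ⟨j, Or.inr (by rw [mul_one, mul_assoc, hgy, ← mul_assoc])⟩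
    · exact Or.inr ⟨j + M, Or.inr (by rw [mul_assoc x, hMg, mul_assoc, hgy, ← mul_assoc])⟩
    · exact Or.inl ⟨j, Or.inr (by rw [mul_assoc, hgy, ← mul_assoc])⟩
    · exact Or.inl ⟨j + M, Or.inr (by rw [← mul_assoc, mul_assoc x, hMg, mul_assoc, hgy, ← mul_assoc])⟩)
    D.mem D.sq
  have hx1 : x ≠ 1 := fun e => hxy (by rw [e]; simp)
  have hx2 : a * x * a⁻¹ * (a * x * a⁻¹) = 1 := by
    rw [show a * x * a⁻¹ * (a * x * a⁻¹) = a * (x * x) * a⁻¹ by group, D.sq]; group
  have haz : a * x * a⁻¹ = u * u := by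
    obtain ⟨j, e | e⟩ := haM
    · rcases hginv j (e ▸ hx2) with h | h
      · exact absurd (conj_eq_one_iff.1 (e.trans h)) hx1
      · exact e.trans h
    · refine absurd ?_ C.z_ne_one
      rw [← heinv j, ← e, hx2]
  have hxz : x ≠ u * u := fun e => hxy (by rw [e]; exact (C.y_z F).symm)
  obtain ⟨r, hr⟩ := D.even
  have hord := D.ord
  have htop := D.top
  rw [← hc] at hord htop
  have hd2 : (c * c) ^ (r : ℤ) * (c * c) ^ (r : ℤ) = u * u := by
    rw [← zpow_add, ← hgM, hr, Nat.cast_add]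
  have hcy : c * y * c⁻¹ = y := by
    rw [hc, mul_inv_rev, hxi, C.t_inv, show t * x * y * (x * t) = t * (x * y * x) * t by group, hxyx,
      C.t_zy F]
  have hcV : ∀ v ∈ C.V F, Commute c v := by
    intro v hv
    have h1 : Commute c (u * u) := C.z_comm hcP
    have h2 : Commute c y := mul_inv_eq_iff_eq_mul.1 hcy
    rcases C.V_cases F hv with rfl | rfl | rfl | rfl
    · exact Commute.one_right c
    · exact h1
    · exact h2
    · exact h1.mul_right h2
  refine C.extremal ?_ hxz (q := (c * c) ^ (r : ℤ) * y) ?_ ?_ haz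
  · intro p hp hp4
    have hform : ∃ i : ℤ, ∃ v ∈ C.V F, p = c ^ i * v ∨ p = x * c ^ i * v := by
      have ht : t = c * x := by rw [hc, mul_assoc, D.sq, mul_one]
      rcases C.mem_or p with h | h
      · obtain ⟨j, v, hv, e⟩ := hgen p ⟨h, hp⟩
        exact ⟨j + j, v, hv, by rwa [zpow_add, ← (Commute.refl c).mul_zpow]⟩
      · obtain ⟨j, v, hv, e⟩ := hgen (p * t) ⟨h, mul_mem hp C.tP⟩
        have hvV : v ∈ C.V F := hv
        have hp' : p = p * t * t := by rw [mul_assoc, C.t2, mul_one]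
        have hvt : v * t = t * (t * v * t) := by
          rw [← mul_assoc, ← mul_assoc, C.t2, one_mul]
        rw [(Commute.refl c).mul_zpow, ← zpow_add] at e
        rcases e with e | e
        · refine ⟨-(j + j + 1), t * v * t, C.V_tconj F hvV, Or.inr ?_⟩
          rw [hp', e, mul_assoc, hvt, ← mul_assoc, ht]
          have hxc : x * c * x⁻¹ = c⁻¹ := by
            rw [hc, mul_inv_rev, hxi, C.t_inv, ← mul_assoc, mul_assoc (x * t), D.sq, mul_one]
          rw [show c ^ (j + j) * (c * x) = c ^ (j + j + 1) * x by rw [zpow_add_one, mul_assoc],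
            conj_zpow_inv hxc]
        · refine ⟨-(j + j + 1), t * v * t, C.V_tconj F hvV, Or.inl ?_⟩
          rw [hp', e, mul_assoc, hvt, ← mul_assoc, ht]
          have hxc : x * c * x⁻¹ = c⁻¹ := by
            rw [hc, mul_inv_rev, hxi, C.t_inv, ← mul_assoc, mul_assoc (x * t), D.sq, mul_one]
          rw [show x * c ^ (j + j) * (c * x) = x * (c ^ (j + j + 1) * x) by
            rw [zpow_add_one, mul_assoc, mul_assoc], conj_zpow_inv hxc, ← mul_assoc x x, D.sq, one_mul]
    obtain ⟨i, v, hv, e | e⟩ := hform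
    · have hiv : Commute (c ^ i) v := (hcV v hv).zpow_left i
      have e2 : p * p = (c * c) ^ i := by
        rw [e, hiv.symm.mul_mul_mul_comm, C.V_sq F hv, mul_one, ← (Commute.refl c).mul_zpow]
      rw [e2] at hp4 ⊢
      exact hginv i hp4
    · have hxc : x * c * x⁻¹ = c⁻¹ := by
        rw [hc, mul_inv_rev, hxi, C.t_inv, ← mul_assoc, mul_assoc (x * t), D.sq, mul_one]
      have hvV : x⁻¹ * v * x ∈ C.V F := by
        have := C.V_conj F (inv_mem D.mem.2) hv; rwa [inv_inv] at this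
      have e2 : p * p = x⁻¹ * v * x * v := by
        rw [e, show x * c ^ i * v * (x * c ^ i * v) = x * (c ^ i * x) * ((x⁻¹ * v * x) * c ^ i) * v by
          group, conj_zpow_inv hxc, ← ((hcV _ hvV).zpow_left i).eq, ← mul_assoc x x, D.sq, one_mul,
          zpow_neg, inv_mul_cancel_left]
      rw [e2]
      rcases C.conj_V_eq F (inv_mem D.mem.2) hv with h | h <;> rw [inv_inv] at h <;> rw [h]
      · exact Or.inl (C.V_sq F hv)
      · exact Or.inr (by rw [mul_assoc, C.V_sq F hv, mul_one])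
  · have hdx : (c * c) ^ (r : ℤ) * x = x * ((c * c) ^ (r : ℤ) * (u * u)) := by
      rw [conj_zpow_inv hxg]
      congr 1
      rw [zpow_neg, inv_eq_iff_mul_eq_one, ← mul_assoc, hd2, C.z_sq]
    have hyx : y * x = x * (u * u * y) := by
      rw [← hxyx, ← mul_assoc, ← mul_assoc, D.sq, one_mul]
    calc (c * c) ^ (r : ℤ) * y * x = (c * c) ^ (r : ℤ) * x * (u * u * y) := by
          rw [mul_assoc, hyx, ← mul_assoc]
      _ = x * (c * c) ^ (r : ℤ) * ((u * u) * (u * u)) * y := by rw [hdx]; group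
      _ = _ := by rw [C.z_sq, mul_one]; group
  · rw [(show Commute ((c * c) ^ (r : ℤ)) y from hgy _).symm.mul_mul_mul_comm, hd2, F.sq, mul_one]

theorem central_outer_false (D : Dat A P t u y x M) (hV : ∀ s, Mem A P s → s * y = y * s)
    (hxV : x ∉ C.V F) : False := by
  haveI := C.normal
  rcases C.homo_or_pw F hV with ⟨b, hb⟩ | hpw
  · exact hxV (hb.inv x D.mem D.sq)
  obtain ⟨c, hc⟩ : ∃ c, c = t * x := ⟨_, rfl⟩
  obtain ⟨hxg, hginv, hgM⟩ := C.dat_facts D
  have hgen := D.gen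
  rw [← hc] at hxg hginv hgM hgen
  have hcP : c ∈ (P : Subgroup H) := hc ▸ mul_mem C.tP D.mem.2
  have hxi : x⁻¹ = x := inv_eq_of_mul_eq_one_right D.sq
  have hxy : x * y = y * x := hV x D.mem
  have hgy : ∀ j : ℤ, (c * c) ^ j * y = y * (c * c) ^ j := fun j => by
    refine hV _ ⟨A.zpow_mem ?_ j, (P : Subgroup H).zpow_mem (mul_mem hcP hcP) j⟩
    exact Subgroup.mul_self_mem_of_index_two C.idx c
  have hcy : c * y * c⁻¹ = u * u * y := by
    rw [hc, mul_inv_rev, hxi, C.t_inv, show t * x * y * (x * t) = t * (x * y * x) * t by group, hxy,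
      mul_assoc y x x, D.sq, mul_one, C.t_y F]
  have hxc : x * c * x⁻¹ = c⁻¹ := by
    rw [hc, mul_inv_rev, hxi, C.t_inv, ← mul_assoc, mul_assoc (x * t), D.sq, mul_one]
  have hMg : ∀ j : ℤ, (c * c) ^ j * (u * u) = (c * c) ^ (j + M) := fun j => by rw [zpow_add, hgM]
  have hyy : ∀ w : H, w * y * y = w := fun w => by rw [mul_assoc, F.sq, mul_one]
  -- the images of `y` and `z y`
  let R : H → Prop := fun w => ∃ a ∈ A, a * y * a⁻¹ = w ∨ a * (u * u * y) * a⁻¹ = w
  have hR : ∀ p ∈ (P : Subgroup H), ∀ w, R w → R (p * w * p⁻¹) := by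
    rintro p hp w ⟨a, ha, e⟩
    have hpa : p * a * p⁻¹ ∈ A := C.normal.conj_mem a ha p
    have hk : ∀ w, p * a * p⁻¹ * (p * w * p⁻¹) * (p * a * p⁻¹)⁻¹ = p * (a * w * a⁻¹) * p⁻¹ :=
      fun w => by group
    have hzp : p * (u * u * y) * p⁻¹ = u * u * (p * y * p⁻¹) := by
      rw [← mul_assoc p, C.z_comm hp, mul_assoc (u * u), mul_assoc (u * u)]
    rcases e with e | e <;> rw [← e]
    · rcases F.conj p hp with h | h
      · exact ⟨_, hpa, Or.inl (by rw [← hk, h])⟩
      · exact ⟨_, hpa, Or.inr (by rw [← hk, h])⟩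
    · rcases F.conj p hp with h | h
      · exact ⟨_, hpa, Or.inr (by rw [← hk, hzp, h])⟩
      · exact ⟨_, hpa, Or.inl (by rw [← hk, hzp, h, ← mul_assoc (u * u) (u * u), C.z_sq, one_mul])⟩
  have reach : ∀ e : H, e * e = 1 → e * y = y * e → e * (c * c) * e⁻¹ = (c * c)⁻¹ →
      (∀ s, Mem A P s → ∃ j : ℤ, s = (c * c) ^ j ∨ s = e * (c * c) ^ j ∨
        s * y = (c * c) ^ j ∨ s * y = e * (c * c) ^ j) →
      (∀ j : ℤ, ∃ k : ℤ, c * (e * (c * c) ^ j) * c⁻¹ = e * (c * c) ^ k ∧
        (k = j - 1 ∨ k = j - 1 + M)) → ∀ j : ℤ, R (e * (c * c) ^ j) := by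
    intro e he hey heg hcov hshift
    let Md := dih (c * c) e heg (he ▸ one_mem _)
    have hgam2 : ∀ j : ℤ, (c * c) ^ j * (c * c) ^ j = 1 →
        (c * c) ^ j = 1 ∨ (c * c) ^ j = u * u := hginv
    have hyM : y ∉ Md := by
      rintro ⟨j, h | h⟩
      · rcases hgam2 j (h ▸ F.sq) with h' | h'
        · exact F.ne_one (h.trans h')
        · exact F.ne_z (h.trans h')
      · have he' : e = y * (c * c) ^ (-j) := by rw [h, zpow_neg, mul_inv_cancel_right]
        have hcomm : e * (c * c) = c * c * e := by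
          have h1 : Commute y (c * c) := by have h := (hgy 1).symm; rwa [zpow_one] at h
          rw [he']
          exact h1.mul_left ((Commute.refl (c * c)).zpow_left (-j))
        rw [hcomm, mul_inv_cancel_right, eq_inv_iff_mul_eq_one] at heg
        have h2 := orderOf_dvd_of_pow_eq_one (show c ^ 4 = 1 by
          rw [show (4 : ℕ) = 2 + 2 from rfl, pow_add, pow_two, heg])
        rw [hc, D.ord] at h2
        obtain ⟨r, hr⟩ := D.even
        have := D.pos
        have := Nat.le_of_dvd (by norm_num) h2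
        omega
    obtain ⟨a, ha, haM, haS⟩ := C.transfer_into Md F.mem hyM (fun s hs => by
      obtain ⟨j, h | h | h | h⟩ := hcov s hs
      · exact Or.inl ⟨j, Or.inl h⟩
      · exact Or.inl ⟨j, Or.inr h⟩
      · exact Or.inr ⟨j, Or.inl h⟩
      · exact Or.inr ⟨j, Or.inr h⟩) F.mem F.sq
    have hy2 : a * y * a⁻¹ * (a * y * a⁻¹) = 1 := by
      rw [show a * y * a⁻¹ * (a * y * a⁻¹) = a * (y * y) * a⁻¹ by group, F.sq]; group
    obtain ⟨j₀, hj₀⟩ : ∃ j₀ : ℤ, a * y * a⁻¹ = e * (c * c) ^ j₀ := by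
      obtain ⟨j, h | h⟩ := haM
      · rcases hgam2 j (h ▸ hy2) with h' | h'
        · exact absurd (conj_eq_one_iff.1 (h.trans h')) F.ne_one
        · exact absurd (show a⁻¹ * (u * u) * a⁻¹⁻¹ = y by rw [← h', ← h]; group)
            (hpw a⁻¹ (inv_mem ha)).1
      · exact ⟨j, h⟩
    have h1 : R (e * (c * c) ^ j₀) := ⟨a, ha, Or.inl hj₀⟩
    have htwo : ∀ j : ℤ, R (e * (c * c) ^ j) → R (e * (c * c) ^ (j - 2)) := by
      intro j hj
      have := hR _ (mul_mem hcP hcP) _ hj
      rwa [show c * c * (e * (c * c) ^ j) * (c * c)⁻¹ = (c * c) ^ (1 : ℤ) * e * ((c * c) ^ j * (c * c)⁻¹) by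
        rw [zpow_one]; group, conj_zpow_inv heg, ← zpow_neg_one, mul_assoc, ← zpow_add, ← zpow_add,
        show -1 + (j + -1) = j - 2 by ring] at this
    have hdown : ∀ (k : ℕ) (j : ℤ), R (e * (c * c) ^ j) → R (e * (c * c) ^ (j - 2 * k)) := by
      intro k
      induction k with
      | zero => intro j hj; simpa using hj
      | succ k ih =>
        intro j hj
        have := htwo _ (ih j hj)
        rwa [show j - 2 * (k : ℤ) - 2 = j - 2 * ((k + 1 : ℕ) : ℤ) by push_cast; ring] at this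
    have hone : ∀ j : ℤ, R (e * (c * c) ^ j) → R (e * (c * c) ^ (j - 1)) := by
      intro j hj
      obtain ⟨k, hk, hk'⟩ := hshift j
      have := hR c hcP _ hj
      rw [hk] at this
      rcases hk' with rfl | rfl
      · exact this
      · obtain ⟨r, hr⟩ := D.even
        have := hdown r _ this
        rwa [show j - 1 + (M : ℤ) - 2 * (r : ℤ) = j - 1 by rw [hr]; push_cast; ring] at this
    have hall : ∀ (k : ℕ), R (e * (c * c) ^ (j₀ - k)) := by
      intro k
      induction k with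
      | zero => simpa using h1
      | succ k ih =>
        have := hone _ ih
        rwa [show j₀ - (k : ℤ) - 1 = j₀ - ((k + 1 : ℕ) : ℤ) by push_cast; ring] at this
    intro j
    have hfin : ∃ k : ℕ, (c * c) ^ (j₀ - k) = (c * c) ^ j := by
      refine ⟨((j₀ - j) % (orderOf (c * c) : ℤ)).toNat, zpow_eq_zpow_iff_modEq.2 ?_⟩
      rw [Int.toNat_of_nonneg (Int.emod_nonneg _ (by exact_mod_cast (orderOf_pos (c * c)).ne'))]
      calc j₀ - (j₀ - j) % (orderOf (c * c) : ℤ) ≡ j₀ - (j₀ - j) [ZMOD (orderOf (c * c) : ℤ)] :=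
            (Int.ModEq.refl j₀).sub (Int.mod_modEq _ _)
        _ = j := by ring
    obtain ⟨k, hk⟩ := hfin
    rw [← hk]; exact hall k
  have hcx : ∀ j : ℤ, c * (x * (c * c) ^ j) * c⁻¹ = x * (c * c) ^ (j - 1) := by
    intro j
    have hcx' : c * x = x * c⁻¹ := by
      have := conj_zpow_inv hxc 1
      rwa [zpow_one, zpow_neg_one] at this
    rw [(Commute.refl c).mul_zpow, (Commute.refl c).mul_zpow, ← zpow_add, ← zpow_add, ← mul_assoc,
      hcx', mul_assoc x, mul_assoc x, ← zpow_neg_one, ← zpow_add, ← zpow_add]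
    congr 2; ring
  have hx1 : ∀ j : ℤ, R (x * (c * c) ^ j) := by
    refine reach x D.sq hxy hxg (fun s hs => ?_) fun j => ⟨j - 1, hcx j, Or.inl rfl⟩
    obtain ⟨j, v, hv, h | h⟩ := hgen s hs <;> rcases hv with rfl | rfl | rfl | rfl <;> rw [h]
    · exact ⟨j, Or.inl (mul_one _)⟩
    · exact ⟨j + M, Or.inl (hMg j)⟩
    · exact ⟨j, Or.inr (Or.inr (Or.inl (hyy _)))⟩
    · exact ⟨j + M, Or.inr (Or.inr (Or.inl (by rw [← mul_assoc, hyy, hMg])))⟩
    · exact ⟨j, Or.inr (Or.inl (mul_one _))⟩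
    · exact ⟨j + M, Or.inr (Or.inl (by rw [mul_assoc, hMg]))⟩
    · exact ⟨j, Or.inr (Or.inr (Or.inr (hyy _)))⟩
    · exact ⟨j + M, Or.inr (Or.inr (Or.inr (by rw [← mul_assoc, hyy, mul_assoc, hMg])))⟩
  have hx2 : ∀ j : ℤ, R (x * y * (c * c) ^ j) := by
    refine reach (x * y) ?_ ?_ ?_ (fun s hs => ?_) fun j => ⟨j - 1 + M, ?_, Or.inr rfl⟩
    · rw [(show Commute x y from hxy).symm.mul_mul_mul_comm, D.sq, F.sq, mul_one]
    · rw [hxy, mul_assoc, hxy]
    · rw [show x * y * (c * c) * (x * y)⁻¹ = x * (y * (c * c) * y⁻¹) * x⁻¹ by group,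
        show y * (c * c) = c * c * y by simpa using (hgy 1).symm, mul_inv_cancel_right, hxg]
    · obtain ⟨j, v, hv, h | h⟩ := hgen s hs <;> rcases hv with rfl | rfl | rfl | rfl <;> rw [h]
      · exact ⟨j, Or.inl (mul_one _)⟩
      · exact ⟨j + M, Or.inl (hMg j)⟩
      · exact ⟨j, Or.inr (Or.inr (Or.inl (hyy _)))⟩
      · exact ⟨j + M, Or.inr (Or.inr (Or.inl (by rw [← mul_assoc, hyy, hMg])))⟩
      · exact ⟨j, Or.inr (Or.inr (Or.inr (by rw [mul_one, mul_assoc, hgy, ← mul_assoc])))⟩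
      · exact ⟨j + M, Or.inr (Or.inr (Or.inr (by rw [mul_assoc x, hMg, mul_assoc, hgy, ← mul_assoc])))⟩
      · exact ⟨j, Or.inr (Or.inl (by rw [mul_assoc, hgy, ← mul_assoc]))⟩
      · exact ⟨j + M, Or.inr (Or.inl (by rw [← mul_assoc, mul_assoc x, hMg, mul_assoc, hgy, ← mul_assoc]))⟩
    · rw [show c * (x * y * (c * c) ^ j) * c⁻¹ = c * (x * (y * (c * c) ^ j)) * c⁻¹ by group, ← hgy,
        show c * (x * ((c * c) ^ j * y)) * c⁻¹ = c * (x * (c * c) ^ j) * c⁻¹ * (c * y * c⁻¹) by group,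
        hcx, hcy, mul_assoc, ← mul_assoc ((c * c) ^ (j - 1)), hMg, hgy, ← mul_assoc]
  -- `z` is alone in its class
  have hzcen : ∀ a ∈ A, a * (u * u) = u * u * a := by
    refine C.isolated_central C.zS C.z_sq C.z_ne_one fun a ha haP => ?_
    have hw : Mem A P (a * (u * u) * a⁻¹) := ⟨C.normal.conj_mem _ C.zS.1 a, haP⟩
    have hw2 : a * (u * u) * a⁻¹ * (a * (u * u) * a⁻¹) = 1 := by
      rw [show a * (u * u) * a⁻¹ * (a * (u * u) * a⁻¹) = a * (u * u * (u * u)) * a⁻¹ by group, C.z_sq]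
      group
    have hcase : R (a * (u * u) * a⁻¹) ∨ a * (u * u) * a⁻¹ ∈ C.V F := by
      obtain ⟨j, v, hv, h | h⟩ := hgen _ hw
      · refine Or.inr ?_
        have hcm : Commute ((c * c) ^ j) v := by
          rcases hv with rfl | rfl | rfl | rfl
          · exact Commute.one_right _
          · exact C.z_comm (zpow_mem (mul_mem hcP hcP) j)
          · exact hgy j
          · exact (show Commute _ _ from C.z_comm (zpow_mem (mul_mem hcP hcP) j)).mul_right (hgy j)
        have hvV : v ∈ C.V F := hv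
        rw [h, hcm.symm.mul_mul_mul_comm, C.V_sq F hvV, mul_one] at hw2
        rw [h]
        rcases hginv j hw2 with e | e <;> rw [e]
        · rw [one_mul]; exact hvV
        · exact mul_mem (C.z_mem_V F) hvV
      · refine Or.inl ?_
        rw [h]
        rcases hv with rfl | rfl | rfl | rfl
        · rw [mul_one]; exact hx1 j
        · rw [mul_assoc, hMg]; exact hx1 _
        · rw [mul_assoc, hgy, ← mul_assoc]; exact hx2 j
        · rw [← mul_assoc, mul_assoc x, hMg, mul_assoc, hgy, ← mul_assoc]; exact hx2 _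
    rcases hcase with ⟨b, hb, e | e⟩ | h
    · exact absurd (show b⁻¹ * a * (u * u) * (b⁻¹ * a)⁻¹ = y by
        rw [show b⁻¹ * a * (u * u) * (b⁻¹ * a)⁻¹ = b⁻¹ * (a * (u * u) * a⁻¹) * b by group, ← e]; group)
        (hpw _ (mul_mem (inv_mem hb) ha)).1
    · exact absurd (show b⁻¹ * a * (u * u) * (b⁻¹ * a)⁻¹ = u * u * y by
        rw [show b⁻¹ * a * (u * u) * (b⁻¹ * a)⁻¹ = b⁻¹ * (a * (u * u) * a⁻¹) * b by group, ← e]; group)
        (hpw _ (mul_mem (inv_mem hb) ha)).2.1
    · rcases C.V_cases F h with e | e | e | e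
      · exact absurd (conj_eq_one_iff.1 e) C.z_ne_one
      · exact e
      · exact absurd e (hpw a ha).1
      · exact absurd e (hpw a ha).2.1
  -- the contradiction
  obtain ⟨a, ha, hay⟩ := hx1 0
  rw [zpow_zero, mul_one] at hay
  obtain ⟨r, hr⟩ := D.even
  obtain ⟨d, hd⟩ : ∃ d, d = (c * c) ^ (r : ℤ) := ⟨_, rfl⟩
  have hdA : d ∈ A := hd ▸ zpow_mem (Subgroup.mul_self_mem_of_index_two C.idx c) _
  have hdx : d * x * d⁻¹ = u * u * x := by
    rw [hd, conj_zpow_inv hxg, mul_assoc, ← zpow_neg, ← zpow_add,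
      show -(r : ℤ) + -(r : ℤ) = -(M : ℤ) by rw [hr]; push_cast; ring, zpow_neg, hgM, C.z_inv,
      C.z_comm D.mem.2]
  obtain ⟨a', ha', hcomb⟩ : ∃ a' ∈ A, a' * y * a'⁻¹ = u * u * (a * y * a⁻¹) := by
    rcases hay with e | e
    · exact ⟨d * a, mul_mem hdA ha, by rw [e, ← hdx, ← e]; group⟩
    · refine ⟨d⁻¹ * a, mul_mem (inv_mem hdA) ha, ?_⟩
      have e' : a * y * a⁻¹ = u * u * x := by
        have hza : u * u * a = a * (u * u) := (hzcen a ha).symm
        rw [← e]
        calc a * y * a⁻¹ = u * u * (u * u) * a * y * a⁻¹ := by rw [C.z_sq, one_mul]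
          _ = u * u * (u * u * a) * y * a⁻¹ := by group
          _ = u * u * (a * (u * u * y) * a⁻¹) := by rw [hza]; group
      rw [show d⁻¹ * a * y * (d⁻¹ * a)⁻¹ = d⁻¹ * (a * y * a⁻¹) * d by group, e', ← mul_assoc (u * u),
        C.z_sq, one_mul, ← hdx]
      group
  refine (hpw (a⁻¹ * a') (mul_mem (inv_mem ha) ha')).2.2 ?_
  rw [show a⁻¹ * a' * y * (a⁻¹ * a')⁻¹ = a⁻¹ * (a' * y * a'⁻¹) * a by group, hcomb]
  calc a⁻¹ * (u * u * (a * y * a⁻¹)) * a = a⁻¹ * (u * u * a) * y := by group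
    _ = u * u * y := by rw [← hzcen a ha, inv_mul_cancel_left]

end Cfg

end CfsgLib.FourCent
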